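import Cfsg.Agent.H68.TransferMod

/-! A complement kernel for a normal abelian `p`-subgroup that is central modulo a stable complement
in a Sylow subgroup. -/

set_option autoImplicit false

namespace H86.CLift

theorem exists_kernel {G : Type*} [Group G] [Finite G] {p : ℕ} [hp : Fact p.Prime]
    (K T₀ : Subgroup G) [hKn : K.Normal] (hK : IsPGroup p K) (hT : IsPGroup p T₀)
    (hKc : ∀ a ∈ K, ∀ b ∈ K, a * b = b * a)
    (hcent : ∀ g : G, ∀ k ∈ K, g * k * g⁻¹ * k⁻¹ ∈ T₀)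
    (hstab : ∀ g : G, ∀ t ∈ T₀, g * t * g⁻¹ ∈ K ⊔ T₀ → g * t * g⁻¹ ∈ T₀)
    (hidx : ¬ p ∣ (K ⊔ T₀).index) :
    ∃ C : Subgroup G, C.Normal ∧ (∀ k ∈ K, k ∈ C → k ∈ T₀) ∧ T₀ ≤ C ∧
      ∀ g : G, ∃ j : ℕ, g ^ p ^ j ∈ C := by
  classical
  obtain ⟨P, hPdef⟩ : ∃ P : Subgroup G, P = K ⊔ T₀ := ⟨_, rfl⟩
  have hTP : T₀ ≤ P := hPdef ▸ le_sup_right
  have hKP : K ≤ P := hPdef ▸ le_sup_left
  have hsplit : ∀ x ∈ P, ∃ k ∈ K, ∃ t ∈ T₀, k * t = x := fun x hx => by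
    rw [hPdef, ← SetLike.mem_coe, Subgroup.normal_mul] at hx
    exact hx
  have hPp : IsPGroup p P := hPdef ▸ hK.to_sup_of_normal_left hT
  set T₁ : Subgroup P := T₀.subgroupOf P with hT₁
  have hT₁n : T₁.Normal := by
    refine ⟨fun x hx g => ?_⟩
    show ((g : G) * x * (g : G)⁻¹) ∈ T₀
    refine hstab _ _ hx ?_
    rw [← hPdef]
    exact mul_mem (mul_mem g.2 x.2) (inv_mem g.2)
  let π := QuotientGroup.mk' T₁
  have hπ : ∀ z : P, π z = 1 ↔ (z : G) ∈ T₀ := fun z => QuotientGroup.eq_one_iff z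
  have hrep : ∀ a : P ⧸ T₁, ∃ k : P, (k : G) ∈ K ∧ π k = a := by
    intro a
    obtain ⟨x, rfl⟩ := QuotientGroup.mk'_surjective T₁ a
    obtain ⟨k, hk, t, ht, hx⟩ := hsplit x x.2
    refine ⟨⟨k, hKP hk⟩, hk, ?_⟩
    rw [show x = (⟨k, hKP hk⟩ : P) * ⟨t, hTP ht⟩ from Subtype.ext hx.symm, map_mul,
      show π ⟨t, hTP ht⟩ = 1 from (hπ _).2 ht, mul_one]
  have hc : ∀ a b : P ⧸ T₁, a * b = b * a := by
    intro a b
    obtain ⟨x, hx, rfl⟩ := hrep a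
    obtain ⟨y, hy, rfl⟩ := hrep b
    rw [← map_mul, ← map_mul]
    exact congrArg π (Subtype.ext (hKc x hx y hy))
  let iA : CommGroup (P ⧸ T₁) := { mul_comm := hc }
  obtain ⟨φ, hφdef⟩ : ∃ φ : P →* P ⧸ T₁, φ = π := ⟨π, rfl⟩
  have hφ : ∀ z : P, φ z = 1 ↔ (z : G) ∈ T₀ := hφdef ▸ hπ
  have key : ∀ (a : G) (x : P) (h : a⁻¹ * (x : G) * a ∈ P), φ ⟨a⁻¹ * x * a, h⟩ = φ x := by
    intro a x h
    obtain ⟨k, hk, t, ht, hx⟩ := hsplit x x.2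
    obtain ⟨kc, hkc⟩ : ∃ kc : P, (kc : G) = a⁻¹ * k * a := ⟨⟨a⁻¹ * k * a, hKP (by
      simpa using hKn.conj_mem k hk a⁻¹)⟩, rfl⟩
    have h1 : a⁻¹ * t * a ∈ P := by
      have h' := P.mul_mem (P.inv_mem kc.2) h
      rwa [hkc, ← hx, show (a⁻¹ * k * a)⁻¹ * (a⁻¹ * (k * t) * a) = a⁻¹ * t * a by group] at h'
    have h2 : a⁻¹ * t * a ∈ T₀ := by
      have h' := hstab a⁻¹ t ht (by rw [← hPdef, inv_inv]; exact h1)
      rwa [inv_inv] at h'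
    have h3 : φ kc = φ ⟨k, hKP hk⟩ := by
      rw [← mul_inv_eq_one, ← map_inv, ← map_mul, hφ]
      have h' := hcent a⁻¹ k hk
      rw [inv_inv] at h'
      show (kc : G) * k⁻¹ ∈ T₀
      rwa [hkc]
    obtain rfl : x = (⟨k, hKP hk⟩ : P) * ⟨t, hTP ht⟩ := Subtype.ext hx.symm
    rw [show (⟨_, h⟩ : P) = kc * ⟨a⁻¹ * t * a, h1⟩ from
      Subtype.ext (by
        show a⁻¹ * (k * t) * a = (kc : G) * (a⁻¹ * t * a)
        rw [hkc]; group),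
      map_mul, map_mul, h3, (hφ ⟨_, hTP ht⟩).2 ht, (hφ ⟨_, h1⟩).2 h2]
  have htr : ∀ x : P, MonoidHom.transfer φ (x : G) = φ x ^ P.index := by
    intro x
    refine H68.transfer_eq_pow_mod φ x x.2 fun k a ha => ?_
    rw [← map_pow]
    exact key a (x ^ k) ha
  have hA : IsPGroup p (P ⧸ T₁) := hPp.to_quotient T₁
  refine ⟨(MonoidHom.transfer φ).ker, inferInstance, fun k hk hkC => ?_, fun t ht => ?_, fun g => ?_⟩
  · rw [MonoidHom.mem_ker, htr ⟨k, hKP hk⟩] at hkC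
    refine (hφ ⟨k, hKP hk⟩).1 ?_
    obtain ⟨j, hj⟩ := hA (φ ⟨k, hKP hk⟩)
    rw [← orderOf_eq_one_iff]
    refine Nat.eq_one_of_dvd_coprimes ?_ (orderOf_dvd_of_pow_eq_one hj)
      (orderOf_dvd_of_pow_eq_one hkC)
    exact Nat.Coprime.pow_left j ((Nat.Prime.coprime_iff_not_dvd hp.1).2 (hPdef ▸ hidx))
  · rw [MonoidHom.mem_ker, htr ⟨t, hTP ht⟩, (hφ ⟨t, hTP ht⟩).2 ht, one_pow]
  · obtain ⟨j, hj⟩ := hA (MonoidHom.transfer φ g)
    exact ⟨j, by rw [MonoidHom.mem_ker, map_pow, hj]⟩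

/-- A normal subgroup containing a Sylow subgroup and a `p`-power of every element is everything. -/
theorem eq_top_of_sylow_le {G : Type*} [Group G] [Finite G] {p : ℕ} [hp : Fact p.Prime]
    (C : Subgroup G) [C.Normal] (R : Sylow p G) (hR : (R : Subgroup G) ≤ C)
    (hpow : ∀ g : G, ∃ j : ℕ, g ^ p ^ j ∈ C) : C = ⊤ := by
  rw [eq_top_iff]
  intro g _
  obtain ⟨j, hj⟩ := hpow g
  rw [← QuotientGroup.eq_one_iff, ← orderOf_eq_one_iff]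
  refine Nat.eq_one_of_dvd_coprimes ?_
    (orderOf_dvd_of_pow_eq_one (show (g : G ⧸ C) ^ p ^ j = 1 from
      (QuotientGroup.eq_one_iff _).2 hj)) (orderOf_dvd_natCard _)
  refine Nat.Coprime.pow_left j ((Nat.Prime.coprime_iff_not_dvd hp.1).2 fun h => R.not_dvd_index ?_)
  exact h.trans ((Subgroup.index_eq_card C) ▸ Subgroup.index_dvd_of_le hR)

end H86.CLift
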