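import Cfsg.Agent.H86.CentralLift.Naive
import Cfsg.Agent.H86.CentralLift.Transfer
import Cfsg.Agent.H86.Level
import Cfsg.Agent.H85.HSaturated2

/-! The defect of the naive preimage at a centric subgroup. -/

set_option autoImplicit false
set_option linter.unusedSectionVars false

open Cfsg Cfsg.FusionSystem

namespace H86.CLift

variable {Ω : Type*} [Group Ω] {Ω' : Type*} [Group Ω'] {S : Subgroup Ω} {S' T' : Subgroup Ω'}
variable [Finite S] {p : ℕ} [Fact p.Prime] {F : FusionSystem S} {Z : Subgroup Ω} {θ : S →* Ω'}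
  {F' : FusionSystem S'} {D : FusionSystem T'}

theorem strongInv_naive (d : Data p F Z θ F' D) : StrongInv (naive d) F := by
  intro P Q hPQ hQT φ hφ hφQ ψ hψ
  obtain ⟨hφF, hPT, φ', hφ', hPS, hφS, hP', he⟩ := hφ
  have := finite_target d
  have hψP := H85.restrict hψ hPQ
  obtain ⟨f, hf, hfe⟩ := F.inv_mem hψP
  have hR : (P.subgroupOf Q).map ψ ≤ (ψ.comp (Subgroup.inclusion hPQ)).range := by
    rintro _ ⟨q, hq, rfl⟩
    exact ⟨⟨q, hq⟩, congrArg ψ (Subtype.ext rfl)⟩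
  have hfR := H85.restrict hf hR
  have hfv : ∀ (x : P) (hx : ψ (Subgroup.inclusion hPQ x) ∈ (P.subgroupOf Q).map ψ),
      (f.comp (Subgroup.inclusion hR)) ⟨_, hx⟩ = x := fun x hx =>
    (congrArg f (Subtype.ext rfl)).trans (hfe x)
  have hsurR : ∀ y : (P.subgroupOf Q).map ψ, ∃ x : P, ψ (Subgroup.inclusion hPQ x) = y := by
    rintro ⟨_, q, hq, rfl⟩
    exact ⟨⟨q, hq⟩, congrArg ψ (Subtype.ext rfl)⟩
  have hm : ∀ y, (f.comp (Subgroup.inclusion hR)) y ∈ P := by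
    intro y
    obtain ⟨x, hx⟩ := hsurR y
    rw [show y = ⟨_, hx ▸ y.2⟩ from Subtype.ext hx.symm, hfv x]
    exact x.2
  let χ₁ := φ.comp ((f.comp (Subgroup.inclusion hR)).codRestrict P hm)
  have hχ₁ : χ₁ ∈ F.Hom ((P.subgroupOf Q).map ψ) := F.comp_mem hfR hφF hm
  let χ := ψ.comp (χ₁.codRestrict Q fun y => hφQ _)
  have hχ : χ ∈ F.Hom ((P.subgroupOf Q).map ψ) := F.comp_mem hχ₁ hψ fun y => hφQ _
  have hval : ∀ (x : P) (hx : ψ (Subgroup.inclusion hPQ x) ∈ (P.subgroupOf Q).map ψ),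
      χ ⟨_, hx⟩ = ψ ⟨φ x, hφQ x⟩ := fun x hx => by
    refine congrArg ψ (Subtype.ext ?_)
    exact congrArg φ (Subtype.ext (hfv x hx))
  refine ⟨χ, ⟨hχ, ?_, ?_⟩, hval⟩
  · rintro _ ⟨q, -, rfl⟩
    exact (pre_closed d).2 Q hQT ψ hψ q
  -- the induced map
  obtain ⟨ψ', hψ', hQS, hψS, hQ', heψ⟩ := exists_ind d hψ
  have hφQ' : ∀ y, φ' y ∈ imageAlong θ Q := by
    intro y
    obtain ⟨x, hx⟩ := surj_image hPS y
    rw [show y = ⟨θ ⟨x, hPS x.2⟩, hP' x⟩ from Subtype.ext hx.symm, he]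
    exact mem_image' θ hQS ⟨φ x, hφQ x⟩
  obtain ⟨χ', hχ', hχe'⟩ := strongInv_of_invariant d.hD.1.2.2 _ _ (imageAlong_mono hPQ)
    (image_le_base hQT) φ' hφ' hφQ' ψ' hψ'
  have hRS : (P.subgroupOf Q).map ψ ≤ S := H85.source_le hχ
  have hpt : ∀ x : P, ψ' (Subgroup.inclusion (imageAlong_mono hPQ)
      ⟨θ ⟨x, hPS x.2⟩, hP' x⟩) = θ ⟨ψ (Subgroup.inclusion hPQ x), hψS _⟩ := fun x =>
    (congrArg ψ' (Subtype.ext rfl)).trans (heψ (Subgroup.inclusion hPQ x))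
  have hle : imageAlong θ ((P.subgroupOf Q).map ψ) ≤
      ((imageAlong θ P).subgroupOf (imageAlong θ Q)).map ψ' := by
    intro z hz
    obtain ⟨s, hs, rfl⟩ := mem_imageAlong.1 hz
    obtain ⟨x, hx⟩ := hsurR ⟨_, hs⟩
    exact ⟨_, hP' x, (hpt x).trans (congrArg θ (Subtype.ext hx))⟩
  refine ⟨_, H85.restrict hχ' hle, hRS, H85.map_mem hχ, mem_image' θ hRS, fun y => ?_⟩
  obtain ⟨x, hx⟩ := hsurR y
  obtain ⟨y, hy⟩ := y
  obtain rfl : ψ (Subgroup.inclusion hPQ x) = y := hx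
  have hz : ψ' (Subgroup.inclusion (imageAlong_mono hPQ) ⟨θ ⟨x, hPS x.2⟩, hP' x⟩) ∈
      ((imageAlong θ P).subgroupOf (imageAlong θ Q)).map ψ' := ⟨_, hP' x, rfl⟩
  refine Eq.trans ?_ ((hχe' _ hz).trans ?_)
  · exact congrArg χ' (Subtype.ext (hpt x).symm)
  · refine ((congrArg ψ' (Subtype.ext (he x))).trans (heψ ⟨φ x, hφQ x⟩)).trans ?_
    exact congrArg θ (Subtype.ext (hval x _).symm)

theorem naive_congr (d : Data p F Z θ F' D) {U U₁ : Subgroup Ω} (hU : U ≤ pre θ T') {e : U ≃* U₁}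
    (he : H85.IsFIso F e) {a : MulAut U} (ha : a ∈ (naive d).autGroup U) :
    MulAut.congr e a ∈ (naive d).autGroup U₁ := by
  have := H85.finite_of_le (pre_le θ T')
  have hU₁ : U₁ ≤ pre θ T' := fun y hy => by
    obtain ⟨x, hx⟩ := e.surjective ⟨y, hy⟩
    have h := (pre_closed d).2 U hU _ he x
    rwa [show (U₁.subtype.comp e.toMonoidHom) x = y from congrArg Subtype.val hx] at h
  obtain ⟨χ, hχ, hχe⟩ := strongInv_naive d U U le_rfl hU _ ((H85.mem_autGroup hU).1 ha)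
    (fun x => (a x).2) _ he
  have hle : U₁ ≤ (U.subgroupOf U).map (U₁.subtype.comp e.toMonoidHom) := fun y hy => by
    obtain ⟨x, hx⟩ := e.surjective ⟨y, hy⟩
    exact ⟨x, x.2, congrArg Subtype.val hx⟩
  refine (H85.mem_autGroup hU₁).2 (H85.hom_congr (H85.restrict hχ hle) fun y => ?_)
  obtain ⟨x, rfl⟩ := e.surjective y
  refine (Eq.trans ?_ (hχe x ⟨x, x.2, congrArg (fun z => (e z : Ω)) (Subtype.ext rfl)⟩)).trans ?_
  · exact congrArg χ (Subtype.ext rfl)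
  · show (e (a x) : Ω) = (e (a (e.symm (e x))) : Ω)
    rw [e.symm_apply_apply]

theorem fix_aut (d : Data p F Z θ F' D) {U : Subgroup Ω} (hU : U ≤ S) {a : MulAut U}
    (ha : a ∈ F.autGroup U) (x : U) (hx : (x : Ω) ∈ Z) : a x = x :=
  Subtype.ext (fix d ((H85.mem_autGroup hU).1 ha) hx)

theorem triv_pow (d : Data p F Z θ F' D) {U : Subgroup Ω} (hU : U ≤ S) {k : MulAut U}
    (hk : k ∈ F.autGroup U) (hkt : k ∈ trivMod Z U) : ∃ j, k ^ p ^ j = 1 := by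
  have := H85.finite_of_le hU
  exact pow_eq_one_trivMod (d.hS.to_le hU) hkt (fix_aut d hU hk)

theorem triv_comm (d : Data p F Z θ F' D) {U : Subgroup Ω} (hU : U ≤ S) {k l : MulAut U}
    (hk : k ∈ F.autGroup U) (hkt : k ∈ trivMod Z U) (hl : l ∈ F.autGroup U)
    (hlt : l ∈ trivMod Z U) : k * l = l * k := by
  refine MulEquiv.ext fun x => Subtype.ext ?_
  have key : ∀ {k l : MulAut U}, k ∈ F.autGroup U → l ∈ trivMod Z U → ∀ x : U,
      ((k (l x) : U) : Ω) = (k x : Ω) * ((x : Ω)⁻¹ * l x) := by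
    intro k l hk hlt x
    have h1 : (l x : U) = x * (x⁻¹ * l x) := by group
    conv_lhs => rw [h1, map_mul, fix_aut d hU hk (x⁻¹ * l x) (hlt x)]
    rfl
  rw [MulAut.mul_apply, MulAut.mul_apply, key hk hlt, key hl hkt]
  have h2 : ∀ z ∈ Z, ∀ y ∈ S, y * z = z * y := fun z hz y hy =>
    mul_inv_eq_iff_eq_mul.1 (z_conj d hy hz)
  calc (k x : Ω) * ((x : Ω)⁻¹ * l x) = (x : Ω) * (((x : Ω)⁻¹ * k x) * ((x : Ω)⁻¹ * l x)) := by group
    _ = (x : Ω) * (((x : Ω)⁻¹ * l x) * ((x : Ω)⁻¹ * k x)) := by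
      rw [h2 _ (hlt x) _ (d.hZ.1 (hkt x))]
    _ = (l x : Ω) * ((x : Ω)⁻¹ * k x) := by group

/-- At a fully normalized subgroup the automorphisms trivial modulo `Z` are induced from `S`. -/
theorem exists_induced_triv (d : Data p F Z θ F' D) {U : Subgroup Ω}
    (hU : F.IsFullyNormalized U) {k : MulAut U} (hk : k ∈ F.autGroup U)
    (hkt : k ∈ trivMod Z U) : ∃ h : normalizerIn S U, H85.conjAut S U h = k := by
  let K : Subgroup (MulAut U) := F.autGroup U ⊓ trivMod Z U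
  have hKp : IsPGroup p K := fun k => by
    obtain ⟨j, hj⟩ := triv_pow d hU.1 k.2.1 k.2.2
    exact ⟨j, Subtype.ext hj⟩
  obtain ⟨γ, hγ, hc⟩ := H85.fullyAutomized_conj
    (H85.fullyAutomized_of_fullyNormalized d.hS d.hF hU) (inf_le_left : K ≤ _) hKp
  have hconj : γ⁻¹ * k * γ ∈ trivMod Z U := fun x => by
    have h1 := hkt (γ x)
    rw [MulAut.mul_apply, MulAut.mul_apply]
    have h2 : k (γ x) = γ x * ((γ x)⁻¹ * k (γ x)) := by group
    rw [h2, map_mul, MulAut.inv_apply_self, Subgroup.coe_mul, inv_mul_cancel_left,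
      fix_aut d hU.1 ((F.autGroup U).inv_mem hγ) _ h1]
    exact h1
  have h := hc _ (show γ⁻¹ * k * γ ∈ K from ⟨mul_mem (mul_mem ((F.autGroup U).inv_mem hγ) hk) hγ, hconj⟩)
  rw [show γ * (γ⁻¹ * k * γ) * γ⁻¹ = k by group, ← H85.conjAut_range] at h
  exact h

theorem image_conj_iso (d : Data p F Z θ F' D) {U U₁ : Subgroup Ω} {e : U ≃* U₁}
    (he : H85.IsFIso F e) : F'.IsConj (imageAlong θ U) (imageAlong θ U₁) := by
  obtain ⟨φ', hφ', hind⟩ := exists_ind d he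
  exact ⟨φ', hφ', (range_eq_of_induced hind).trans (congrArg _ (H85.IsFIso.range_eq e))⟩

theorem centric_iso (d : Data p F Z θ F' D) {U U₁ : Subgroup Ω} {e : U ≃* U₁}
    (he : H85.IsFIso F e) (hc : D.IsCentric (imageAlong θ U)) :
    D.IsCentric (imageAlong θ U₁) :=
  haveI := finite_target d
  centric_of_conj d.hD.1 hc (image_conj_iso d he)

theorem z_le_iso (d : Data p F Z θ F' D) {U U₁ : Subgroup Ω} {e : U ≃* U₁}
    (he : H85.IsFIso F e) (hZ : Z ≤ U) : Z ≤ U₁ := fun z hz => by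
  have h : (e ⟨z, hZ hz⟩ : Ω) = z := fix d he (x := (⟨z, hZ hz⟩ : U)) hz
  exact h ▸ (e ⟨z, hZ hz⟩).2

/-- An element of the preimage inducing an automorphism trivial modulo `Z` of a centric subgroup
lies in it. -/
theorem mem_of_triv (d : Data p F Z θ F' D) {U : Subgroup Ω} (hU : U ≤ pre θ T') (hZ : Z ≤ U)
    (hc : D.IsCentric (imageAlong θ U)) {w : Ω} (hwT : w ∈ pre θ T')
    (hw : ∀ x ∈ U, x⁻¹ * (w * x * w⁻¹) ∈ Z) : w ∈ U := by
  have hUS := hU.trans (pre_le θ T')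
  obtain ⟨hwS, hw'⟩ := mem_preimageAlong.1 hwT
  have h1 : θ ⟨w, hwS⟩ ∈ centralizerIn T' (imageAlong θ U) := by
    refine H85.mem_centralizerIn.2 ⟨hw', fun y hy => ?_⟩
    obtain ⟨s, hs, rfl⟩ := mem_imageAlong.1 hy
    have h2 := (d.hθ.2.1 (s⁻¹ * (⟨w, hwS⟩ * s * ⟨w, hwS⟩⁻¹))).2 (hw _ hs)
    rw [map_mul, map_mul, map_mul, map_inv, map_inv, inv_mul_eq_one] at h2
    nth_rewrite 1 [h2]
    group
  have h2 := H85.centric_self hc h1
  have h3 : w ∈ preimageAlong θ (imageAlong θ U) := mem_preimageAlong.2 ⟨hwS, h2⟩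
  rw [preimage_image d hUS, sup_eq_left.2 hZ] at h3
  exact h3

theorem congr_inn {U U₁ : Subgroup Ω} (e : U ≃* U₁) {a : MulAut U}
    (h : MulAut.congr e a ∈ Cfsg.Inn U₁) : a ∈ Cfsg.Inn U := by
  obtain ⟨u, hu⟩ := h
  refine ⟨e.symm u, MulEquiv.ext fun x => e.injective ?_⟩
  have h1 := DFunLike.congr_fun hu (e x)
  show e (e.symm u * x * (e.symm u)⁻¹) = e (a x)
  rw [map_mul, map_mul, map_inv, e.apply_symm_apply]
  refine h1.trans ?_
  show e (a (e.symm (e x))) = _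
  rw [e.symm_apply_apply]

theorem congr_triv (d : Data p F Z θ F' D) {U U₁ : Subgroup Ω} {e : U ≃* U₁}
    (he : H85.IsFIso F e) {k : MulAut U} (hk : k ∈ trivMod Z U) :
    MulAut.congr e k ∈ trivMod Z U₁ := by
  intro y
  obtain ⟨x, rfl⟩ := e.surjective y
  show (e x : Ω)⁻¹ * (e (k (e.symm (e x))) : Ω) ∈ Z
  rw [e.symm_apply_apply, show k x = x * (x⁻¹ * k x) by group, map_mul, Subgroup.coe_mul,
    inv_mul_cancel_left]
  rw [show (e (x⁻¹ * k x) : Ω) = ((x⁻¹ * k x : U) : Ω) from fix d he (x := x⁻¹ * k x) (hk x)]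
  exact hk x

/-- A transport to a fully normalized subgroup defined on the whole normalizer. -/
theorem exists_transport (d : Data p F Z θ F' D) {U : Subgroup Ω} (hU : U ≤ pre θ T') :
    ∃ (U₁ : Subgroup Ω) (m : normalizerIn S U →* Ω) (e : U ≃* U₁), F.IsFullyNormalized U₁ ∧
      U₁ ≤ pre θ T' ∧ m ∈ F.Hom (normalizerIn S U) ∧ (∀ g, m g ∈ normalizerIn S U₁) ∧
      H85.IsFIso F e ∧
      ∀ x : U, m (Subgroup.inclusion (H85.le_normalizerIn (hU.trans (pre_le θ T'))) x) = e x := by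
  have hUS := hU.trans (pre_le θ T')
  obtain ⟨U₁, hc, hn⟩ := H85.exists_fullyNormalized F hUS
  obtain ⟨m, hm, hmN, himg⟩ := H85.exists_map_to_fullyNormalized d.hS d.hF hn hc
  have hUN := H85.le_normalizerIn hUS
  refine ⟨U₁, m, (H85.resIso m (F.injective_of_mem hm) hUN).trans
    (MulEquiv.subgroupCongr himg), hn, ?_, hm, hmN,
    H85.hom_congr (H85.restrict hm hUN) fun _ => rfl, fun x => rfl⟩
  obtain ⟨φ, hφ, rfl⟩ := hc
  rintro _ ⟨x, rfl⟩
  exact (pre_closed d).2 U hU φ hφ x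

/-- The centrality of the defect. -/
theorem defect_cent (d : Data p F Z θ F' D) {U : Subgroup Ω} (hU : U ≤ pre θ T') (hZ : Z ≤ U)
    (hc : D.IsCentric (imageAlong θ U)) {g k : MulAut U} (hg : g ∈ (naive d).autGroup U)
    (hk : k ∈ F.autGroup U) (hkt : k ∈ trivMod Z U) : g * k * g⁻¹ * k⁻¹ ∈ Cfsg.Inn U := by
  obtain ⟨U₁, m, e, hn, hU₁, -, -, he, -⟩ := exists_transport d hU
  refine congr_inn e ?_
  simp only [map_mul, map_inv]
  have hg₁ := naive_congr d hU he hg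
  have hk₁ : MulAut.congr e k ∈ F.autGroup U₁ :=
    H85.congr_mem_autGroup he hk
  have hkt₁ := congr_triv d he hkt
  have hZ₁ := z_le_iso d he hZ
  have hc₁ := centric_iso d he hc
  generalize MulAut.congr e g = g₁ at hg₁ ⊢
  generalize MulAut.congr e k = k₁ at hk₁ hkt₁ ⊢
  have hU₁S := hn.1
  have : Finite U₁ := H85.finite_of_le hU₁S
  have := finite_target d
  obtain ⟨⟨h, hh⟩, hhe⟩ := exists_induced_triv d hn hk₁ hkt₁
  obtain ⟨f', hf', hf't, hf'e⟩ :=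
    extAt_normal (isPGroup_target d) d.hD hc₁ _ (red_mem d hU₁ ⟨g₁, hg₁⟩)
  have hY'S : pc S' (imageAlong θ U₁) ≤ S' := pc_le (image_le d U₁)
  set Y := preimageAlong θ (pc S' (imageAlong θ U₁)) with hYdef
  obtain ⟨f, hf, hYS, hfS, hY', hfe⟩ :=
    exists_lift d ((H85.mem_autGroup hY'S).1 hf')
  have hUY : U₁ ≤ Y := fun x hx => mem_preimageAlong.2
    ⟨hU₁S hx, Subgroup.mem_sup_left (mem_image' θ hU₁S ⟨x, hx⟩)⟩
  have hhS : h ∈ S := hh.1
  have hhk : ∀ x : U₁, (k₁ x : Ω) = h * (x : Ω) * h⁻¹ := fun x => by rw [← hhe]; rfl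
  have hhY : h ∈ Y := by
    refine mem_preimageAlong.2 ⟨hhS, Subgroup.mem_sup_right (H85.mem_centralizerIn.2
      ⟨image_le d S (mem_image' θ le_rfl ⟨h, hhS⟩), fun y hy => ?_⟩)⟩
    obtain ⟨s, hs, rfl⟩ := mem_imageAlong.1 hy
    have h1 : (s : Ω)⁻¹ * (h * (s : Ω) * h⁻¹) ∈ Z := by
      have := hkt₁ ⟨s, hs⟩
      rwa [hhk] at this
    have h2 := (d.hθ.2.1 (s⁻¹ * (⟨h, hhS⟩ * s * ⟨h, hhS⟩⁻¹))).2 h1
    rw [map_mul, map_mul, map_mul, map_inv, map_inv, inv_mul_eq_one] at h2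
    nth_rewrite 1 [h2]
    group
  -- the restriction `b` of `f` to `U₁`
  have hfU : ∀ x : U₁, f (Subgroup.inclusion hUY x) ∈ U₁ ∧
      θ ⟨f (Subgroup.inclusion hUY x), hfS _⟩ = θ ⟨g₁ x, hU₁S (g₁ x).2⟩ := by
    intro x
    have h1 : θ ⟨f (Subgroup.inclusion hUY x), hfS _⟩ = θ ⟨g₁ x, hU₁S (g₁ x).2⟩ := by
      rw [← hfe]
      refine Eq.trans ?_ ((hf'e ⟨_, mem_image' θ hU₁S x⟩).trans (red_apply d hU₁ ⟨g₁, hg₁⟩ x))
      exact congrArg (fun z => ((f' z : pc S' (imageAlong θ U₁)) : Ω')) (Subtype.ext rfl)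
    refine ⟨?_, h1⟩
    have h2 := hZ₁ ((d.hθ.2.1 (⟨g₁ x, hU₁S (g₁ x).2⟩⁻¹ *
      ⟨f (Subgroup.inclusion hUY x), hfS _⟩)).1
      (by rw [map_mul, map_inv, h1, inv_mul_cancel]))
    have h3 := U₁.mul_mem (g₁ x).2 h2
    simp only [Subgroup.coe_mul, Subgroup.coe_inv, mul_inv_cancel_left] at h3
    exact h3
  have hfU' := H85.restrict hf hUY
  have hbr : (f.comp (Subgroup.inclusion hUY)).range = U₁ :=
    range_eq_self_of_le F hfU' (by rintro _ ⟨x, rfl⟩; exact (hfU x).1)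
  set b : MulAut U₁ := autOfHom _ (F.injective_of_mem hfU') hbr with hbdef
  have hb : b ∈ F.autGroup U₁ := autOfHom_mem F hfU' hbr
  have hgF : g₁ ∈ F.autGroup U₁ :=
    (H85.mem_autGroup hU₁S).2 (naive_sub d _ ((H85.mem_autGroup hU₁).1 hg₁))
  have hk2 : b⁻¹ * g₁ ∈ trivMod Z U₁ := fun x => by
    have h1 : (g₁ x : Ω)⁻¹ * (b x : Ω) ∈ Z :=
      (d.hθ.2.1 (⟨g₁ x, hU₁S (g₁ x).2⟩⁻¹ * ⟨f (Subgroup.inclusion hUY x), hfS _⟩)).1
        (by rw [map_mul, map_inv, (hfU x).2, inv_mul_cancel])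
    have h3 : g₁ x = b x * ((g₁ x)⁻¹ * b x)⁻¹ := by group
    rw [MulAut.mul_apply, h3, map_mul, MulAut.inv_apply_self, map_inv, fix_aut d hU₁S ((F.autGroup U₁).inv_mem hb) ((g₁ x)⁻¹ * b x) h1]
    rw [Subgroup.coe_mul, inv_mul_cancel_left]
    exact Z.inv_mem h1
  have hcomm : g₁ * k₁ * g₁⁻¹ = b * k₁ * b⁻¹ := by
    have h1 := triv_comm d hU₁S (mul_mem (inv_mem hb) hgF) hk2 hk₁ hkt₁
    calc g₁ * k₁ * g₁⁻¹ = b * (b⁻¹ * g₁ * k₁) * (b⁻¹ * g₁)⁻¹ * b⁻¹ := by group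
      _ = b * (k₁ * (b⁻¹ * g₁)) * (b⁻¹ * g₁)⁻¹ * b⁻¹ := by rw [h1]
      _ = b * k₁ * b⁻¹ := by group
  -- `f` moves `h` inside its coset of `U₁`
  let hy : Y := ⟨h, hhY⟩
  have hfh : h⁻¹ * f hy ∈ U₁ := by
    have h1 := hf't ⟨θ ⟨h, hhS⟩, hY' hy⟩
    have h2 : ((f' ⟨θ ⟨h, hhS⟩, hY' hy⟩ : pc S' (imageAlong θ U₁)) : Ω') = θ ⟨f hy, hfS _⟩ :=
      hfe hy
    rw [h2] at h1
    have h3 : h⁻¹ * f hy ∈ preimageAlong θ (imageAlong θ U₁) := by
      refine mem_preimageAlong.2 ⟨mul_mem (inv_mem hhS) (hfS _), ?_⟩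
      have h4 : θ ⟨h⁻¹ * f hy, mul_mem (inv_mem hhS) (hfS _)⟩ =
          (θ ⟨h, hhS⟩)⁻¹ * θ ⟨f hy, hfS _⟩ := by
        rw [← map_inv, ← map_mul]
        rfl
      rw [h4]
      exact h1
    rw [preimage_image d hU₁S, sup_eq_left.2 hZ₁] at h3
    exact h3
  refine ⟨⟨f hy * h⁻¹, ?_⟩, MulEquiv.ext fun x => Subtype.ext ?_⟩
  · have h1 := H85.conj_mem_of_mem_normalizer hh.2 hfh
    rwa [show h * (h⁻¹ * f hy) * h⁻¹ = f hy * h⁻¹ by group] at h1
  · rw [hcomm]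
    show f hy * h⁻¹ * (x : Ω) * (f hy * h⁻¹)⁻¹ = (b (k₁ (b⁻¹ (k₁⁻¹ x))) : Ω)
    have hb' : ∀ y : U₁, (b (k₁ y) : Ω) = f hy * (b y : Ω) * (f hy)⁻¹ := by
      intro y
      show f (Subgroup.inclusion hUY (k₁ y)) = f hy * f (Subgroup.inclusion hUY y) * (f hy)⁻¹
      rw [← map_inv, ← map_mul, ← map_mul]
      exact congrArg f (Subtype.ext (hhk y))
    rw [hb', MulAut.apply_inv_self]
    have h5 := hhk (k₁⁻¹ x)
    rw [MulAut.apply_inv_self] at h5
    rw [h5]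
    group

/-- The stability of the induced automorphisms. -/
theorem defect_stab (d : Data p F Z θ F' D) {U : Subgroup Ω} (hU : U ≤ pre θ T') (hZ : Z ≤ U)
    (hc : D.IsCentric (imageAlong θ U)) {g k c c' : MulAut U} (hg : g ∈ (naive d).autGroup U)
    (hk : k ∈ F.autGroup U) (hkt : k ∈ trivMod Z U) (hct : c ∈ autInducedBy (pre θ T') U)
    (hct' : c' ∈ autInducedBy (pre θ T') U) (heq : g * c * g⁻¹ = k * c') :
    k ∈ Cfsg.Inn U := by
  obtain ⟨U₁, m, e, hn, hU₁, hm, hmN, he, hme⟩ := exists_transport d hU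
  have hUS := hU.trans (pre_le θ T')
  refine congr_inn e ?_
  have hind : ∀ c : MulAut U, c ∈ autInducedBy (pre θ T') U → ∃ t ∈ pre θ T',
      ∀ y : U₁, (MulAut.congr e c y : Ω) = t * (y : Ω) * t⁻¹ := by
    intro c hc
    obtain ⟨t, ht, hte⟩ := H85.mem_autInducedBy.1 hc
    let tn : normalizerIn S U := ⟨t, pre_le θ T' ht, H85.mem_normalizer_of_induced hte⟩
    refine ⟨m tn, map_mem_of_stronglyClosed (pre_closed d) hm (x := tn) ht, fun y => ?_⟩
    obtain ⟨x, rfl⟩ := e.surjective y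
    show (e (c (e.symm (e x))) : Ω) = _
    rw [e.symm_apply_apply]
    refine Eq.trans ?_ (H85.extend_conj (H85.le_normalizerIn hUS) hme
      (g := tn) (x := x) (by show t * (x : Ω) * t⁻¹ ∈ U; rw [← hte]; exact (c x).2))
    exact congrArg (fun z => (e z : Ω)) (Subtype.ext (hte x))
  have heq₁ := congrArg (MulAut.congr e) heq
  simp only [map_mul, map_inv] at heq₁
  obtain ⟨t, ht, hte⟩ := hind c hct
  obtain ⟨t', ht', hte'⟩ := hind c' hct'
  have hg₁ := naive_congr d hU he hg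
  have hk₁ : MulAut.congr e k ∈ F.autGroup U₁ := H85.congr_mem_autGroup he hk
  have hkt₁ := congr_triv d he hkt
  have hZ₁ := z_le_iso d he hZ
  have hc₁ := centric_iso d he hc
  generalize MulAut.congr e g = g₁ at hg₁ heq₁
  generalize MulAut.congr e k = k₁ at hk₁ hkt₁ heq₁ ⊢
  generalize MulAut.congr e c = c₁ at hte heq₁
  generalize MulAut.congr e c' = c₁' at hte' heq₁
  obtain ⟨⟨h, hh⟩, hhe⟩ := exists_induced_triv d hn hk₁ hkt₁
  have hhk : ∀ x : U₁, (k₁ x : Ω) = h * (x : Ω) * h⁻¹ := fun x => by rw [← hhe]; rfl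
  have hU₁S := hn.1
  have hgF : H85.IsFIso F g₁ := naive_sub d _ ((H85.mem_autGroup (F := naive d) hU₁).1 hg₁)
  obtain ⟨ψ, hψ, hext⟩ := H85.receptive_extend
    (H85.receptive_of_fullyNormalized d.hS d.hF hn) hgF
  have hUX : U₁ ≤ extender S U₁ (U₁.subtype.comp g₁.toMonoidHom) :=
    H85.le_extender hU₁S fun x => H85.map_mem hgF x
  have htS : t ∈ S := pre_le θ T' ht
  have htN : t ∈ Subgroup.normalizer (U₁ : Set Ω) := H85.mem_normalizer_of_induced hte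
  have hrel : ∀ x : U₁, (g₁ (c₁ x) : Ω) = h * t' * (g₁ x : Ω) * (h * t')⁻¹ := by
    intro x
    have h1 := congrArg (fun z : U₁ => (z : Ω)) (DFunLike.congr_fun heq₁ (g₁ x))
    simp only [MulAut.mul_apply, MulAut.inv_apply_self] at h1
    rw [h1, hhk, hte']
    group
  have htX : t ∈ extender S U₁ (U₁.subtype.comp g₁.toMonoidHom) := by
    refine H85.mem_extender.2 ⟨htS, htN, h * t', mul_mem hh.1 (pre_le θ T' ht'), fun x hx => ?_⟩
    rw [show (⟨t * (x : Ω) * t⁻¹, hx⟩ : U₁) = c₁ x from Subtype.ext (hte x).symm]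
    exact hrel x
  set w : Ω := ψ ⟨t, htX⟩ * t'⁻¹ with hwdef
  have hwT : w ∈ pre θ T' :=
    mul_mem (map_mem_of_stronglyClosed (pre_closed d) hψ (x := ⟨t, htX⟩) ht) (inv_mem ht')
  have hwk : ∀ y : U₁, (k₁ y : Ω) = w * (y : Ω) * w⁻¹ := by
    intro y
    obtain ⟨x, hx⟩ := g₁.surjective (c₁'⁻¹ y)
    have h1 : y = c₁' (g₁ x) := by rw [hx, MulAut.apply_inv_self]
    have h2 : (g₁ (c₁ x) : Ω) = ψ ⟨t, htX⟩ * (g₁ x : Ω) * (ψ ⟨t, htX⟩)⁻¹ := by
      refine Eq.trans ?_ (H85.extend_conj hUX (fun z => hext z z.2 _) (g := ⟨t, htX⟩) (x := x)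
        (by rw [← hte]; exact (c₁ x).2))
      exact congrArg (fun z => (g₁ z : Ω)) (Subtype.ext (hte x))
    have h3 := congrArg (fun z : U₁ => (z : Ω)) (DFunLike.congr_fun heq₁ (g₁ x))
    simp only [MulAut.mul_apply, MulAut.inv_apply_self] at h3
    rw [h1, ← h3, h2, hte', hwdef]
    group
  have hwU := mem_of_triv d hU₁ hZ₁ hc₁ hwT fun x hx => by
    have h1 := hkt₁ ⟨x, hx⟩
    rwa [hwk] at h1
  exact ⟨⟨w, hwU⟩, MulEquiv.ext fun y => Subtype.ext (hwk y).symm⟩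

theorem red_surjOn_sub (d : Data p F Z θ F' D) {U : Subgroup Ω} (hU : U ≤ pre θ T')
    (hZ : Z ≤ U) {X' : Subgroup Ω'} (hX : X' ≤ T') {b : MulAut (imageAlong θ U)}
    (hb : b ∈ autInducedBy X' (imageAlong θ U)) :
    ∃ a : (naive d).autGroup U, (a : MulAut U) ∈ autInducedBy (preimageAlong θ X') U ∧
      red d hU a = b := by
  have := H85.finite_of_le (pre_le θ T')
  have hUS := hU.trans (pre_le θ T')
  have : Finite U := H85.finite_of_le hUS
  obtain ⟨y, hy, hye⟩ := H85.mem_autInducedBy.1 hb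
  obtain ⟨s, hs⟩ : y ∈ θ.range := d.hθ.2.2.1 ▸ le_target d (hX hy)
  have hsT : (s : Ω) ∈ pre θ T' := mem_preimageAlong.2 ⟨s.2, hs ▸ hX hy⟩
  have hsX : (s : Ω) ∈ preimageAlong θ X' := mem_preimageAlong.2 ⟨s.2, hs ▸ hy⟩
  have hsN : (s : Ω) ∈ Subgroup.normalizer (U : Set Ω) := by
    refine H85.mem_normalizer_of_conj fun x hx => ?_
    have h1 : (s : Ω) * x * (s : Ω)⁻¹ ∈ preimageAlong θ (imageAlong θ U) := by
      refine mem_preimageAlong.2 ⟨mul_mem (mul_mem s.2 (hUS hx)) (inv_mem s.2), ?_⟩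
      have h2 := (b ⟨_, mem_image' θ hUS ⟨x, hx⟩⟩).2
      rw [hye, ← hs, ← map_inv, ← map_mul, ← map_mul] at h2
      exact h2
    rw [preimage_image d hUS, sup_eq_left.2 hZ] at h1
    exact h1
  have hc : H85.conjAut (pre θ T') U ⟨s, hsT, hsN⟩ ∈ autInducedBy (preimageAlong θ X') U :=
    H85.mem_autInducedBy.2 ⟨s, hsX, fun _ => rfl⟩
  refine ⟨⟨_, H85.autInducedBy_le_autGroup (naive d) hU
    (H85.mem_autInducedBy.2 ⟨s, hsT, fun _ => rfl⟩)⟩, hc, MulEquiv.ext fun z => ?_⟩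
  obtain ⟨x, hx⟩ := surj_image (θ := θ) hUS z
  rw [show z = ⟨_, mem_image' θ hUS x⟩ from Subtype.ext hx.symm]
  refine Subtype.ext ((red_apply d hU _ x).trans ?_)
  rw [hye, ← hs, ← map_inv, ← map_mul, ← map_mul]
  rfl

theorem red_surjOn_induced (d : Data p F Z θ F' D) {U : Subgroup Ω} (hU : U ≤ pre θ T')
    (hZ : Z ≤ U) {b : MulAut (imageAlong θ U)} (hb : b ∈ autInducedBy T' (imageAlong θ U)) :
    ∃ a : (naive d).autGroup U, (a : MulAut U) ∈ autInducedBy (pre θ T') U ∧ red d hU a = b :=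
  red_surjOn_sub d hU hZ le_rfl hb

/-- The subgroup `C` killing the defect. -/
theorem exists_C (d : Data p F Z θ F' D) {U : Subgroup Ω} (hU : U ≤ pre θ T') (hZ : Z ≤ U)
    (hc : D.IsCentric (imageAlong θ U)) (hn : D.IsFullyNormalized (imageAlong θ U)) :
    ∃ C : Subgroup ((naive d).autGroup U), C.Normal ∧
      (∀ k : (naive d).autGroup U, (k : MulAut U) ∈ trivMod Z U → k ∈ C →
        (k : MulAut U) ∈ Cfsg.Inn U) ∧
      (∀ a : (naive d).autGroup U, (a : MulAut U) ∈ autInducedBy (pre θ T') U → a ∈ C) ∧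
      ∀ g : (naive d).autGroup U, ∃ j : ℕ, g ^ p ^ j ∈ C := by
  have := H85.finite_of_le (pre_le θ T')
  have hUS := hU.trans (pre_le θ T')
  have : Finite U := H85.finite_of_le hUS
  have := finite_target d
  have := finite_base d
  have hUb := image_le_base (θ := θ) hU
  have : Finite (imageAlong θ U) := H85.finite_of_le hUb
  have : Finite (MulAut (imageAlong θ U)) := Finite.of_injective _ DFunLike.coe_injective
  have : Finite (MulAut U) := Finite.of_injective (fun e => (e : U → U)) DFunLike.coe_injective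
  set G := (naive d).autGroup U
  have hGF : ∀ g : G, (g : MulAut U) ∈ F.autGroup U := fun g =>
    (H85.mem_autGroup hUS).2 (naive_sub d _ ((H85.mem_autGroup (F := naive d) hU).1 g.2))
  set K := (red d hU).ker with hKdef
  set T₀ : Subgroup G := (autInducedBy (pre θ T') U).subgroupOf G with hT₀def
  have hK : IsPGroup p K := fun k => by
    obtain ⟨j, hj⟩ := triv_pow d hUS (hGF k) ((red_ker d hU k).1 k.2)
    exact ⟨j, Subtype.ext (Subtype.ext hj)⟩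
  have hT : IsPGroup p T₀ :=
    (H85.autInducedBy_isPGroup (d.hS.to_le (pre_le θ T')) U).comap_of_injective G.subtype
      G.subtype_injective
  have hinn : ∀ k : G, (k : MulAut U) ∈ Cfsg.Inn U → k ∈ T₀ := fun k hk =>
    H85.inn_le_autInducedBy hU hk
  have hKT : ∀ k ∈ K, k ∈ T₀ → (k : MulAut U) ∈ Cfsg.Inn U := by
    intro k hk hkT
    obtain ⟨w, hw, hwe⟩ := H85.mem_autInducedBy.1 hkT
    have hwU := mem_of_triv d hU hZ hc hw fun x hx => by
      have h1 := ((red_ker d hU k).1 hk) ⟨x, hx⟩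
      show x⁻¹ * (w * ((⟨x, hx⟩ : U) : Ω) * w⁻¹) ∈ Z
      rw [← hwe]
      exact h1
    exact ⟨⟨w, hwU⟩, MulEquiv.ext fun y => Subtype.ext (hwe y).symm⟩
  have hcent : ∀ g : G, ∀ k ∈ K, g * k * g⁻¹ * k⁻¹ ∈ T₀ := fun g k hk => hinn _
    (defect_cent d hU hZ hc g.2 (hGF k) ((red_ker d hU k).1 hk))
  have hstab : ∀ g : G, ∀ t ∈ T₀, g * t * g⁻¹ ∈ K ⊔ T₀ → g * t * g⁻¹ ∈ T₀ := by
    intro g t ht h
    rw [← SetLike.mem_coe, Subgroup.normal_mul] at h
    obtain ⟨k, hk, t', ht', he⟩ := h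
    rw [← show k * t' = g * t * g⁻¹ from he]
    exact mul_mem (hinn k (defect_stab d hU hZ hc g.2 (hGF k) ((red_ker d hU k).1 hk) ht ht'
      (congrArg Subtype.val he).symm)) ht'
  have hidx : ¬ p ∣ (K ⊔ T₀).index := by
    obtain ⟨-, R, hR⟩ := H85.fullyAutomized_of_fullyNormalized
      ((isPGroup_target d).to_le (le_target d)) (satD d) hn
    let f : G →* D.autGroup (imageAlong θ U) := (red d hU).codRestrict _ (red_mem d hU)
    have hker : f.ker = K := by rw [hKdef]; exact MonoidHom.ker_codRestrict _ _ _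
    have hle : (R : Subgroup (D.autGroup (imageAlong θ U))) ≤ (K ⊔ T₀).map f := by
      intro b hb
      rw [hR] at hb
      obtain ⟨a, ha, hab⟩ := red_surjOn_induced d hU hZ hb
      exact ⟨a, Subgroup.mem_sup_right ha, Subtype.ext hab⟩
    intro hp
    refine R.not_dvd_index (hp.trans ?_)
    refine dvd_trans ?_ (Subgroup.index_dvd_of_le hle)
    rw [Subgroup.index_map, hker, show K ⊔ T₀ ⊔ K = K ⊔ T₀ from sup_eq_left.2 le_sup_left]
    exact dvd_mul_right _ _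
  obtain ⟨C, hC, hCK, hCT, hpow⟩ := exists_kernel K T₀ hK hT (fun a ha b hb => Subtype.ext
    (triv_comm d hUS (hGF a) ((red_ker d hU a).1 ha) (hGF b) ((red_ker d hU b).1 hb)))
    hcent hstab hidx
  exact ⟨C, hC, fun k hkt hkC => hKT k ((red_ker d hU k).2 hkt)
    (hCK k ((red_ker d hU k).2 hkt) hkC), fun a ha => hCT ha, hpow⟩

end H86.CLift
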