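import Cfsg.Agent.H86.CentralLift.Defect
import Cfsg.Agent.H86.PrimeIndex

/-! The least subsystem of the naive preimage containing the `p'`-automorphisms of the centric
subgroups; every map of `D` has a lift in it. -/

set_option autoImplicit false
set_option linter.unusedSectionVars false

open Cfsg Cfsg.FusionSystem

namespace H86.CLift

variable {Ω : Type*} [Group Ω] {Ω' : Type*} [Group Ω'] {S : Subgroup Ω} {S' T' : Subgroup Ω'}
variable [Finite S] {p : ℕ} [Fact p.Prime] {F : FusionSystem S} {Z : Subgroup Ω} {θ : S →* Ω'}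
  {F' : FusionSystem S'} {D : FusionSystem T'}

/-- A subgroup containing a subgroup of index prime to `p` and all elements of order prime to `p`
is everything. -/
theorem eq_top_of_coprime {G : Type*} [Group G] [Finite G] (M : Subgroup G) (R : Sylow p G)
    (hR : (R : Subgroup G) ≤ M) (h : ∀ x : G, (orderOf x).Coprime p → x ∈ M) : M = ⊤ := by
  rw [← Subgroup.index_eq_one]
  by_contra hne
  obtain ⟨q, hq, hqM⟩ := Nat.exists_prime_and_dvd hne
  haveI := Fact.mk hq
  by_cases hqp : q = p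
  · subst hqp
    exact R.not_dvd_index (hqM.trans (Subgroup.index_dvd_of_le hR))
  · obtain ⟨Q⟩ : Nonempty (Sylow q G) := inferInstance
    have hQ : (Q : Subgroup G) ≤ M := fun x hx => h x (by
      obtain ⟨k, hk⟩ := Q.isPGroup' ⟨x, hx⟩
      refine Nat.Coprime.of_dvd_left (orderOf_dvd_of_pow_eq_one (congrArg Subtype.val hk)) ?_
      exact Nat.Coprime.pow_left k ((Nat.coprime_primes hq Fact.out).2 hqp))
    exact Q.not_dvd_index (hqM.trans (Subgroup.index_dvd_of_le hQ))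

/-- A normal subgroup with `p`-group quotient containing a subgroup of index prime to `p` is
everything. -/
theorem eq_top_of_index {G : Type*} [Group G] [Finite G] (C : Subgroup G) [C.Normal]
    (R : Subgroup G) (hR : R ≤ C) (hidx : ¬ p ∣ R.index)
    (hpow : ∀ g : G, ∃ j : ℕ, g ^ p ^ j ∈ C) : C = ⊤ := by
  rw [eq_top_iff]
  intro g _
  obtain ⟨j, hj⟩ := hpow g
  rw [← QuotientGroup.eq_one_iff, ← orderOf_eq_one_iff]
  refine Nat.eq_one_of_dvd_coprimes ?_
    (orderOf_dvd_of_pow_eq_one (show (g : G ⧸ C) ^ p ^ j = 1 from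
      (QuotientGroup.eq_one_iff _).2 hj)) (orderOf_dvd_natCard _)
  refine Nat.Coprime.pow_left j ((Nat.Prime.coprime_iff_not_dvd Fact.out).2 fun h => hidx ?_)
  exact h.trans ((Subgroup.index_eq_card C) ▸ Subgroup.index_dvd_of_le hR)

/-- `E` contains the automorphisms of order prime to `p` of the centric subgroups. -/
def GoodL (d : Data p F Z θ F' D) (E : FusionSystem (pre θ T')) : Prop :=
  ∀ U : Subgroup Ω, Z ≤ U → U ≤ pre θ T' → D.IsCentric (imageAlong θ U) →
    ∀ a ∈ (naive d).autGroup U, (orderOf a).Coprime p → a ∈ E.autGroup U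

/-- The lift of `D`. -/
def liftSys (d : Data p F Z θ F' D) : FusionSystem (pre θ T') :=
  residual (naive d) (GoodL d)

theorem liftSys_le_naive (d : Data p F Z θ F' D) : liftSys d ≤ naive d := fun _ _ h => h.1

theorem liftSys_sub (d : Data p F Z θ F' D) : (liftSys d).IsSubsystemOf F :=
  fun _ _ h => h.1.1

theorem goodL_liftSys (d : Data p F Z θ F' D) : GoodL d (liftSys d) := by
  have := H85.finite_of_le (pre_le θ T')
  intro U hZ hU hc a ha hord
  exact (H85.mem_autGroup hU).2 ⟨(H85.mem_autGroup hU).1 ha,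
    fun E hE => (H85.mem_autGroup hU).1 (hE U hZ hU hc a ha hord)⟩

theorem preimageAlong_mono {P Q : Subgroup Ω'} (h : P ≤ Q) :
    preimageAlong θ P ≤ preimageAlong θ Q := fun _ hx => by
  obtain ⟨hs, hx'⟩ := mem_preimageAlong.1 hx
  exact mem_preimageAlong.2 ⟨hs, h hx'⟩

theorem z_le_preimage (d : Data p F Z θ F' D) (P : Subgroup Ω') : Z ≤ preimageAlong θ P :=
  fun z hz => mem_preimageAlong.2 ⟨d.hZ.1 hz, by rw [(d.hθ.2.1 _).2 hz]; exact one_mem _⟩

theorem image_preimage (d : Data p F Z θ F' D) {P : Subgroup Ω'} (hP : P ≤ S') :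
    imageAlong θ (preimageAlong θ P) = P := imageAlong_preimageAlong d.hθ.2.2.1 hP

/-- `ℓ`, a map of the lift on the preimage of the source, induces `φ'`. -/
def Lifts (θ : S →* Ω') {P' : Subgroup Ω'} (φ' : P' →* Ω') (ℓ : preimageAlong θ P' →* Ω) : Prop :=
  ∀ (x : preimageAlong θ P') (h1 : (x : Ω) ∈ S) (h2 : ℓ x ∈ S) (h3 : θ ⟨x, h1⟩ ∈ P'),
    θ ⟨ℓ x, h2⟩ = φ' ⟨θ ⟨x, h1⟩, h3⟩

set_option maxHeartbeats 400000 in
/-- Every map of `D` has a lift in the lifted system. -/
theorem exists_liftL (d : Data p F Z θ F' D) {P' : Subgroup Ω'} {φ' : P' →* Ω'}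
    (h : φ' ∈ D.Hom P') : ∃ ℓ ∈ (liftSys d).Hom (preimageAlong θ P'), Lifts θ φ' ℓ := by
  have := finite_target d
  have := finite_base d
  have := H85.finite_of_le (pre_le θ T')
  have hpre : ∀ {P' : Subgroup Ω'}, P' ≤ T' → preimageAlong θ P' ≤ pre θ T' :=
    fun h => preimageAlong_mono h
  refine induction_within ((isPGroup_target d).to_le (le_target d)) (satD d)
    (stronglyClosed_self D) (fun P' φ' => ∃ ℓ ∈ (liftSys d).Hom (preimageAlong θ P'),
      Lifts θ φ' ℓ) ?_ ?_ ?_ ?_ P' (H85.source_le h) φ' h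
  · rintro P Q φ hPQ hQ hφ ⟨ℓ, hℓ, he⟩
    exact ⟨_, H85.restrict hℓ (preimageAlong_mono hPQ), fun x h1 h2 h3 =>
      (he (Subgroup.inclusion (preimageAlong_mono hPQ) x) h1 h2 (hPQ h3)).trans
        (congrArg φ (Subtype.ext rfl))⟩
  · rintro P Q R e e' hP hQ hR - - ⟨ℓ, hℓ, he⟩ ⟨ℓ', hℓ', he'⟩
    have hval : ∀ (x : preimageAlong θ P), ∃ h1 : (x : Ω) ∈ S, ∃ h3 : θ ⟨x, h1⟩ ∈ P,
        θ ⟨ℓ x, pre_le θ T' (((liftSys d).le_of_mem hℓ).2 x)⟩ = (e ⟨_, h3⟩ : Ω') := fun x => by
      obtain ⟨h1, h3⟩ := mem_preimageAlong.1 x.2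
      exact ⟨h1, h3, he x h1 _ h3⟩
    have hm : ∀ x, ℓ x ∈ preimageAlong θ Q := fun x => by
      obtain ⟨h1, h3, hv⟩ := hval x
      exact mem_preimageAlong.2 ⟨_, hv ▸ (e _).2⟩
    refine ⟨_, (liftSys d).comp_mem hℓ hℓ' hm, fun x h1 h2 h3 => ?_⟩
    obtain ⟨_, h3', hv⟩ := hval x
    refine (he' ⟨ℓ x, hm x⟩ (pre_le θ T' (((liftSys d).le_of_mem hℓ).2 x)) h2
      (hv ▸ (e _).2)).trans ?_
    exact congrArg (fun z => (e' z : Ω')) (Subtype.ext hv)
  · rintro P Q e hP hQ - ⟨ℓ, hℓ, he⟩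
    obtain ⟨ψ, hψ, hψe⟩ := (liftSys d).inv_mem hℓ
    have hle : preimageAlong θ Q ≤ ℓ.range := by
      intro y hy
      obtain ⟨hyS, hy'⟩ := mem_preimageAlong.1 hy
      obtain ⟨x', hx'⟩ := e.surjective ⟨_, hy'⟩
      obtain ⟨s, hs⟩ : (x' : Ω') ∈ θ.range :=
        d.hθ.2.2.1 ▸ le_target d (hP x'.2)
      have hsP : (s : Ω) ∈ preimageAlong θ P := mem_preimageAlong.2 ⟨s.2, hs ▸ x'.2⟩
      have hℓS := pre_le θ T' (((liftSys d).le_of_mem hℓ).2 ⟨s, hsP⟩)
      have h1 : θ ⟨ℓ ⟨s, hsP⟩, hℓS⟩ = θ ⟨y, hyS⟩ := by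
        rw [he ⟨s, hsP⟩ s.2 hℓS (hs ▸ x'.2)]
        refine Eq.trans ?_ (congrArg Subtype.val hx')
        exact congrArg (fun z => (e z : Ω')) (Subtype.ext hs)
      have hz : (ℓ ⟨s, hsP⟩)⁻¹ * y ∈ Z :=
        (d.hθ.2.1 (⟨_, hℓS⟩⁻¹ * ⟨y, hyS⟩)).1 (by rw [map_mul, map_inv, h1, inv_mul_cancel])
      have hzP := z_le_preimage d P hz
      refine ⟨⟨s, hsP⟩ * ⟨_, hzP⟩, ?_⟩
      rw [map_mul, show ℓ ⟨_, hzP⟩ = (ℓ ⟨s, hsP⟩)⁻¹ * y from
        fix d (liftSys_sub d _ hℓ) hz, mul_inv_cancel_left]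
    refine ⟨_, H85.restrict hψ hle, fun y h1 h2 h3 => ?_⟩
    obtain ⟨x, hx⟩ := hle y.2
    obtain ⟨hxS, hx'⟩ := mem_preimageAlong.1 x.2
    have hψx : (ψ.comp (Subgroup.inclusion hle)) y = x :=
      (congrArg ψ (Subtype.ext hx.symm)).trans (hψe x)
    have hv := he x hxS (hx ▸ h1) hx'
    have h4 : (⟨θ ⟨y, h1⟩, h3⟩ : Q) = e ⟨_, hx'⟩ :=
      Subtype.ext ((congrArg θ (Subtype.ext hx.symm)).trans hv)
    show θ ⟨_, h2⟩ = (e.symm ⟨θ ⟨y, h1⟩, h3⟩ : Ω')
    rw [h4, e.symm_apply_apply]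
    exact congrArg θ (Subtype.ext hψx)
  intro U' hU'T hn IH α hα
  have hαD : H85.IsFIso D α := (H85.mem_autGroup hU'T).1 hα
  by_cases hc : D.IsCentric U'
  · obtain ⟨U, hUdef⟩ : ∃ U, U = preimageAlong θ U' := ⟨_, rfl⟩
    have hU : U ≤ pre θ T' := hUdef ▸ hpre hU'T
    have hUS := hU.trans (pre_le θ T')
    have hZ : Z ≤ U := hUdef ▸ z_le_preimage d U'
    have himg : imageAlong θ U = U' := hUdef ▸ image_preimage d (hU'T.trans (le_target d))
    subst himg
    have hfin : Finite U := H85.finite_of_le hUS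
    have : Finite (MulAut U) := Finite.of_injective (fun e => (e : U → U)) DFunLike.coe_injective
    have : Finite (imageAlong θ U) := H85.finite_of_le hU'T
    have : Finite (MulAut (imageAlong θ U)) := Finite.of_injective _ DFunLike.coe_injective
    let f : (naive d).autGroup U →* D.autGroup (imageAlong θ U) :=
      (red d hU).codRestrict _ (red_mem d hU)
    let M : Subgroup (D.autGroup (imageAlong θ U)) :=
      (((liftSys d).autGroup U).subgroupOf ((naive d).autGroup U)).map f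
    obtain ⟨-, R, hR⟩ := H85.fullyAutomized_of_fullyNormalized
      ((isPGroup_target d).to_le (le_target d)) (satD d) hn
    have hMR : (R : Subgroup (D.autGroup (imageAlong θ U))) ≤ M := by
      intro b hb
      rw [hR] at hb
      obtain ⟨a, ha, hab⟩ := red_surjOn_induced d hU hZ hb
      exact ⟨a, H85.autInducedBy_le_autGroup (liftSys d) hU ha, Subtype.ext hab⟩
    have hMp : ∀ b : D.autGroup (imageAlong θ U), (orderOf b).Coprime p → b ∈ M := by
      intro b hb
      have hbF' : ((imageAlong θ U).subtype.comp (b : MulAut (imageAlong θ U)).toMonoidHom) ∈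
          F'.Hom (imageAlong θ U) := d.hD.1.2.2.1 _ ((H85.mem_autGroup hU'T).1 b.2)
      obtain ⟨φ, hφ, hPS, hφS, hP', he⟩ := exists_lift d hbF'
      have hle : U ≤ preimageAlong θ (imageAlong θ U) := by rw [preimage_image d hUS]; exact le_sup_left
      have hφU := H85.restrict hφ hle
      have hv : ∀ x : U, θ ⟨φ (Subgroup.inclusion hle x), hφS _⟩ =
          ((b : MulAut (imageAlong θ U)) ⟨_, mem_image' θ hUS x⟩ : Ω') := fun x =>
        ((he (Subgroup.inclusion hle x)).symm).trans rfl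
      have hr : (φ.comp (Subgroup.inclusion hle)).range = U := range_eq_self_of_le F hφU (by
        rintro _ ⟨x, rfl⟩
        have h1 : φ (Subgroup.inclusion hle x) ∈ preimageAlong θ (imageAlong θ U) :=
          mem_preimageAlong.2 ⟨hφS _, hv x ▸ SetLike.coe_mem _⟩
        exact ((preimage_image d hUS).le.trans (sup_le le_rfl hZ)) h1)
      set a : MulAut U := autOfHom _ (F.injective_of_mem hφU) hr with hadef
      have haG : a ∈ (naive d).autGroup U := (H85.mem_autGroup hU).2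
        ⟨H85.hom_congr hφU fun x => rfl, hU, _, (H85.mem_autGroup hU'T).1 b.2, hUS,
          fun x => hUS (a x).2, mem_image' θ hUS, fun x => (hv x).symm⟩
      have hfa : f ⟨a, haG⟩ = b := by
        refine Subtype.ext (MulEquiv.ext fun z => Subtype.ext ?_)
        obtain ⟨x, hx⟩ := surj_image (θ := θ) hUS z
        rw [show z = ⟨_, mem_image' θ hUS x⟩ from Subtype.ext hx.symm]
        exact (red_apply d hU ⟨a, haG⟩ x).trans (hv x)
      obtain ⟨n, hn', hbn⟩ := exists_exp_coprime (p := p) (⟨a, haG⟩ : (naive d).autGroup U) b hb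
      refine ⟨(⟨a, haG⟩ : (naive d).autGroup U) ^ n, ?_, ?_⟩
      · refine Subgroup.mem_subgroupOf.2 ?_
        refine goodL_liftSys d U hZ hU hc _ (SetLike.coe_mem _) ?_
        rw [Subgroup.orderOf_coe]
        exact hn'
      · rw [map_pow, hfa, hbn]
    have htop := eq_top_of_coprime M R hMR hMp
    obtain ⟨l, hl, hlα⟩ : (⟨α, hα⟩ : D.autGroup (imageAlong θ U)) ∈ M := htop ▸ trivial
    have hpim : preimageAlong θ (imageAlong θ U) ≤ U :=
      (preimage_image d hUS).le.trans (sup_le le_rfl hZ)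
    refine ⟨_, H85.restrict ((H85.mem_autGroup hU).1 (hl : (l : MulAut U) ∈ _)) hpim,
      fun x h1 h2 h3 => ?_⟩
    refine Eq.trans ?_ ((red_apply d hU l (Subgroup.inclusion hpim x)).symm.trans ?_)
    · rfl
    · rw [show red d hU l = α from congrArg Subtype.val hlα]
      rfl
  · have hrec := H85.receptive_of_fullyNormalized ((isPGroup_target d).to_le (le_target d))
      (satD d) hn
    set X := extender T' U' (U'.subtype.comp α.toMonoidHom) with hXdef
    obtain ⟨ψ, hψ, hext⟩ : ∃ ψ ∈ D.Hom X, ∀ (x : Ω') (hP : x ∈ U') (hN : x ∈ X),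
        ψ ⟨x, hN⟩ = (α ⟨x, hP⟩ : Ω') := H85.receptive_extend hrec hαD
    have hUX : U' ≤ X := H85.le_extender hU'T fun x => H85.map_mem hαD x
    have : Finite X := H85.finite_of_le (H85.extender_le _ _)
    have hbig : Nat.card U' < Nat.card X := by
      refine lt_of_le_of_ne (Subgroup.card_le_of_le hUX) fun h => hc ?_
      refine H85.centric_of_receptive hrec ?_
      exact (H85.centralizerIn_le_extender _ _).trans
        (Subgroup.eq_of_le_of_card_ge hUX h.ge).symm.le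
    obtain ⟨ℓ, hℓ, he⟩ := IH X (H85.extender_le _ _) hbig ψ hψ
    refine ⟨_, H85.restrict hℓ (preimageAlong_mono hUX), fun x h1 h2 h3 => ?_⟩
    exact (he (Subgroup.inclusion (preimageAlong_mono hUX) x) h1 h2 (hUX h3)).trans
      (hext _ h3 _)

end H86.CLift
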