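import Cfsg.Agent.H86.CentralLift.Restrict

/-! In the lifted system the automorphisms trivial modulo `Z` of a centric subgroup are inner. -/

set_option autoImplicit false
set_option linter.unusedSectionVars false
set_option linter.unusedVariables false

open Cfsg Cfsg.FusionSystem

namespace H86.CLift

variable {Ω : Type*} [Group Ω] {Ω' : Type*} [Group Ω'] {S : Subgroup Ω} {S' T' : Subgroup Ω'}
variable [Finite S] {p : ℕ} [Fact p.Prime] {F : FusionSystem S} {Z : Subgroup Ω} {θ : S →* Ω'}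
  {F' : FusionSystem S'} {D : FusionSystem T'} {U₀ : Subgroup Ω}

theorem isDefectKernel_exists (d : Data p F Z θ F' D) (hU : U₀ ≤ pre θ T') (hZ : Z ≤ U₀)
    (hc : D.IsCentric (imageAlong θ U₀)) (hn : D.IsFullyNormalized (imageAlong θ U₀)) :
    ∃ C, IsDefectKernel d U₀ C := by
  obtain ⟨C, h1, h2, h3, h4⟩ := exists_C d hU hZ hc hn
  exact ⟨C, h1, h2, h3, h4⟩

theorem coprime_mem_kernel (d : Data p F Z θ F' D) {C : Subgroup ((naive d).autGroup U₀)}
    (hC : IsDefectKernel d U₀ C) (g : (naive d).autGroup U₀) (h : (orderOf g).Coprime p) :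
    g ∈ C := by
  obtain ⟨j, hj⟩ := hC.power g
  obtain ⟨m, hm⟩ := exists_pow_eq_self_of_coprime
    (show Nat.Coprime (p ^ j) (orderOf g) from Nat.Coprime.pow_left j h.symm)
  rw [← hm]
  exact pow_mem hj m

theorem image_conj (d : Data p F Z θ F' D) {P U : Subgroup Ω} {φ : P →* Ω}
    (hφ : φ ∈ (liftSys d).Hom P) (hUP : U ≤ P) :
    D.IsConj (imageAlong θ U) (imageAlong θ (H85.img φ U)) := by
  obtain ⟨-, -, φ', hφ', hind⟩ := liftSys_le_naive d _ (H85.restrict hφ hUP)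
  refine ⟨φ', hφ', (range_eq_of_induced hind).trans (congrArg (imageAlong θ) ?_)⟩
  refine le_antisymm ?_ ?_
  · rintro _ ⟨x, rfl⟩
    exact H85.apply_mem_img (φ := φ) (x := Subgroup.inclusion hUP x) x.2
  · intro y hy
    obtain ⟨x, hx, rfl⟩ := H85.mem_img.1 hy
    exact ⟨⟨x, hx⟩, congrArg φ (Subtype.ext rfl)⟩

theorem z_le_img (d : Data p F Z θ F' D) {P U : Subgroup Ω} {φ : P →* Ω}
    (hφ : φ ∈ (liftSys d).Hom P) (hUP : U ≤ P) (hZ : Z ≤ U) : Z ≤ H85.img φ U := fun z hz =>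
  H85.mem_img.2 ⟨⟨z, hUP (hZ hz)⟩, hZ hz, fix d (liftSys_sub d _ hφ) hz⟩

theorem img_le_pre (d : Data p F Z θ F' D) {P U : Subgroup Ω} {φ : P →* Ω}
    (hφ : φ ∈ (liftSys d).Hom P) : H85.img φ U ≤ pre θ T' :=
  (H85.img_le_range φ).trans (H85.range_le hφ)

theorem uniq_top (d : Data p F Z θ F' D) : Uniq d (pre θ T') := by
  have := finite_target d
  have := finite_base d
  have := H85.finite_of_le (pre_le θ T')
  have himg : imageAlong θ (pre θ T') = T' := image_preimage d (le_target d)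
  obtain ⟨C, hC⟩ := isDefectKernel_exists d (U₀ := pre θ T') le_rfl (z_le_pre d)
    (himg.symm ▸ H85.centric_top D) (himg.symm ▸ H85.fullyNormalized_top D)
  have hrT : ∀ {P : Subgroup Ω} {φ : P →* Ω}, φ ∈ (liftSys d).Hom P → ∀ hP : pre θ T' ≤ P,
      (φ.comp (Subgroup.inclusion hP)).range = pre θ T' := fun hφ hP =>
    range_eq_self_of_le _ (H85.restrict hφ hP) (H85.range_le (H85.restrict hφ hP))
  let L₀ : FusionSystem (pre θ T') :=
    { Hom := fun P => {φ | φ ∈ (liftSys d).Hom P ∧ (pre θ T' ≤ P → Agrees d C φ)}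
      le_of_mem := fun h => (liftSys d).le_of_mem h.1
      injective_of_mem := fun h => (liftSys d).injective_of_mem h.1
      conj_mem := by
        intro P g hP hg
        refine ⟨(liftSys d).conj_mem hP hg, fun hPT => ?_⟩
        have hgN : g ∈ normalizerIn (pre θ T') (pre θ T') := ⟨hg, Subgroup.le_normalizer hg⟩
        have hc : H85.conjAut (pre θ T') (pre θ T') ⟨g, hgN⟩ ∈
            autInducedBy (pre θ T') (pre θ T') :=
          H85.mem_autInducedBy.2 ⟨g, hg, fun _ => rfl⟩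
        exact ⟨⟨_, H85.autInducedBy_le_autGroup (naive d) le_rfl hc⟩, hC.induced _ hc,
          fun u hu => rfl⟩
      comp_mem := by
        rintro P Q φ ψ ⟨hφ, hφ'⟩ ⟨hψ, hψ'⟩ h
        refine ⟨(liftSys d).comp_mem hφ hψ h, fun hP => ?_⟩
        have hQ : pre θ T' ≤ Q := fun y hy => by
          obtain ⟨x, rfl⟩ := (hrT hφ hP).ge hy
          exact h _
        obtain ⟨c, hc, hce⟩ := hφ' hP
        obtain ⟨c', hc', hce'⟩ := hψ' hQ
        refine ⟨c' * c, mul_mem hc' hc, fun u hu => ?_⟩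
        rw [Subgroup.coe_mul, MulAut.mul_apply]
        exact Eq.trans (congrArg ψ (Subtype.ext (hce u hu) :
          (⟨φ ⟨u, hu⟩, h _⟩ : Q) = ⟨_, hQ (SetLike.coe_mem _)⟩)) (hce' _ _)
      inv_mem := by
        rintro P φ ⟨hφ, hφ'⟩
        obtain ⟨ψ, hψ, hψe⟩ := (liftSys d).inv_mem hφ
        refine ⟨ψ, ⟨hψ, fun hr => ?_⟩, hψe⟩
        have hPT := H85.source_le hφ
        have hP : pre θ T' ≤ P := by
          refine (Subgroup.eq_of_le_of_card_ge hPT ?_).ge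
          have : Finite φ.range := H85.finite_of_le (H85.range_le hφ)
          rw [← card_range (liftSys d) hφ]
          exact Subgroup.card_le_of_le hr
        obtain ⟨c, hc, hce⟩ := hφ' hP
        refine ⟨c⁻¹, inv_mem hc, fun u hu => ?_⟩
        have h1 : φ ⟨_, hP (((c : MulAut (pre θ T'))⁻¹ u).2)⟩ = u := by
          rw [hce _ _, MulAut.apply_inv_self]
        have e : (⟨(u : Ω), hu⟩ : φ.range) =
            ⟨φ ⟨_, hP (((c : MulAut (pre θ T'))⁻¹ u).2)⟩, _, rfl⟩ := Subtype.ext h1.symm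
        rw [e, hψe]
        rfl }
  intro k hk hkt
  have hle : liftSys d ≤ L₀ := by
    refine residual_le (naive d) ?_
    intro U hZ hU hc a ha hord
    have haL := goodL_liftSys d U hZ hU hc a ha hord
    refine (H85.mem_autGroup hU).2 ⟨(H85.mem_autGroup hU).1 haL, fun hTU => ?_⟩
    obtain rfl := le_antisymm hU hTU
    exact ⟨⟨a, ha⟩, coprime_mem_kernel d hC ⟨a, ha⟩ (by rwa [← Subgroup.orderOf_coe]),
      fun u hu => rfl⟩
  have hkF := (H85.mem_autGroup le_rfl).1 hk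
  obtain ⟨c, hc, hce⟩ := (hle _ hkF).2 le_rfl
  have hck : (c : MulAut (pre θ T')) = k := MulEquiv.ext fun u => Subtype.ext (hce u u.2).symm
  rw [← hck] at hkt ⊢
  exact hC.inner c hkt hc

/-- The loop condition relative to charts. -/
def GoodAt (d : Data p F Z θ F' D) (C : Subgroup ((naive d).autGroup U₀)) (P : Subgroup Ω)
    (φ : P →* Ω) : Prop :=
  ∀ U : Subgroup Ω, U ≤ P → Z ≤ U → D.IsConj (imageAlong θ U) (imageAlong θ U₀) →
    ∀ χ ∈ (liftSys d).Hom (normalizerIn (pre θ T') U), H85.img χ U = U₀ →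
    ∀ χ' ∈ (liftSys d).Hom (normalizerIn (pre θ T') (H85.img φ U)),
      H85.img χ' (H85.img φ U) = U₀ →
    ∃ c ∈ C, ∀ (x : P) (_hx : (x : Ω) ∈ U) (h1 : (x : Ω) ∈ normalizerIn (pre θ T') U)
      (h2 : φ x ∈ normalizerIn (pre θ T') (H85.img φ U)) (h3 : χ ⟨x, h1⟩ ∈ U₀),
      ((c : MulAut U₀) ⟨χ ⟨x, h1⟩, h3⟩ : Ω) = χ' ⟨φ x, h2⟩

theorem card_eq_of_img (d : Data p F Z θ F' D) {P U V : Subgroup Ω} {χ : P →* Ω}
    (hχ : χ ∈ (liftSys d).Hom P) (hUP : U ≤ P) (h : H85.img χ U = V) :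
    Nat.card U = Nat.card V :=
  (Nat.card_congr (H85.resIso χ ((liftSys d).injective_of_mem hχ) hUP).toEquiv).trans (by rw [h])

theorem chart_congr (d : Data p F Z θ F' D) {U U' : Subgroup Ω} (h : U = U')
    {χ : normalizerIn (pre θ T') U →* Ω} (hχ : χ ∈ (liftSys d).Hom (normalizerIn (pre θ T') U))
    (hχU : H85.img χ U = U₀) :
    ∃ χ₁ ∈ (liftSys d).Hom (normalizerIn (pre θ T') U'), H85.img χ₁ U' = U₀ ∧
      ∀ x (h1 : x ∈ normalizerIn (pre θ T') U) (h2 : x ∈ normalizerIn (pre θ T') U'),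
        χ₁ ⟨x, h2⟩ = χ ⟨x, h1⟩ := by
  subst h
  exact ⟨χ, hχ, hχU, fun _ _ _ => rfl⟩

/-- A map of the lifted system with larger source gives an element of `C` between two charts. -/
theorem chart_of_extend (d : Data p F Z θ F' D) {C : Subgroup ((naive d).autGroup U₀)}
    (hC : IsDefectKernel d U₀ C) (hU₀ : U₀ ≤ pre θ T') (hZ₀ : Z ≤ U₀)
    (hc : D.IsCentric (imageAlong θ U₀)) (hn : D.IsFullyNormalized (imageAlong θ U₀))
    (hu : ∀ V : Subgroup Ω, Z ≤ V → V ≤ pre θ T' → D.IsCentric (imageAlong θ V) →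
      Nat.card U₀ < Nat.card V → Uniq d V)
    {U U' V : Subgroup Ω} (hU : U ≤ pre θ T') (hUV : U ≤ V) (hlt : Nat.card U < Nat.card V)
    (hVN : V ≤ normalizerIn (pre θ T') U) {y : V →* Ω} (hy : y ∈ (liftSys d).Hom V)
    (hyU : H85.img y U = U')
    {χ : normalizerIn (pre θ T') U →* Ω} (hχ : χ ∈ (liftSys d).Hom (normalizerIn (pre θ T') U))
    (hχU : H85.img χ U = U₀)
    {χ' : normalizerIn (pre θ T') U' →* Ω}
    (hχ' : χ' ∈ (liftSys d).Hom (normalizerIn (pre θ T') U')) (hχU' : H85.img χ' U' = U₀) :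
    ∃ c ∈ C, ∀ (v : V) (_hv : (v : Ω) ∈ U) (h2 : y v ∈ normalizerIn (pre θ T') U')
      (h3 : χ (Subgroup.inclusion hVN v) ∈ U₀),
      ((c : MulAut U₀) ⟨χ (Subgroup.inclusion hVN v), h3⟩ : Ω) = χ' ⟨y v, h2⟩ := by
  have := H85.finite_of_le (pre_le θ T')
  have hUN : U ≤ normalizerIn (pre θ T') U := H85.le_normalizerIn hU
  have hU'T : U' ≤ pre θ T' := hyU ▸ img_le_pre d hy
  have hyN : ∀ v : V, y v ∈ normalizerIn (pre θ T') U' := fun v =>
    mem_normalizerIn_of_map hy hUV hyU (hVN v.2).2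
  have hz := (liftSys d).comp_mem hy hχ' hyN
  set i := H85.resIso χ ((liftSys d).injective_of_mem hχ) hVN with hidef
  have hi : H85.IsFIso (liftSys d) i := H85.isFIso_resIso hχ hVN
  have hzi := (liftSys d).comp_mem hi.symm hz fun w => (i.symm w).2
  have hV₁N : H85.img χ V ≤ normalizerIn (pre θ T') U₀ := by
    intro w hw
    obtain ⟨x, hx, rfl⟩ := H85.mem_img.1 hw
    exact mem_normalizerIn_of_map hχ hUN hχU x.2.2
  have hU₀V : U₀ ≤ H85.img χ V := hχU ▸ H85.img_mono χ hUV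
  have hlt₁ : Nat.card U₀ < Nat.card (H85.img χ V) := by
    rw [← card_eq_of_img d hχ hUN hχU, ← Nat.card_congr i.toEquiv]
    exact hlt
  have hstab : ∀ w : H85.img χ V, (w : Ω) ∈ U₀ →
      χ' ⟨y (i.symm w), hyN _⟩ ∈ U₀ := by
    intro w hw
    obtain ⟨x, hx, hxw⟩ := H85.mem_img.1 (hχU.ge hw)
    have h1 : i.symm w = ⟨(x : Ω), hUV hx⟩ := (MulEquiv.symm_apply_eq _).2
      (Subtype.ext (hxw.symm.trans (congrArg χ (Subtype.ext rfl))))
    rw [← hχU']
    refine H85.apply_mem_img (φ := χ') (x := (⟨y (i.symm w), hyN _⟩ : normalizerIn (pre θ T') U')) ?_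
    show y (i.symm w) ∈ U'
    rw [← hyU, h1]
    exact H85.apply_mem_img (φ := y) (x := (⟨(x : Ω), hUV hx⟩ : V)) hx
  obtain ⟨c, hc₁, hce⟩ := agrees_of_stab d hC hU₀ hZ₀ hc hn hu hU₀V hlt₁ hV₁N hzi hstab
  refine ⟨c, hc₁, fun v hv h2 h3 => ?_⟩
  refine (hce ⟨χ (Subgroup.inclusion hVN v), h3⟩ (i v).2).symm.trans ?_
  show χ' ⟨y (i.symm (i v)), hyN _⟩ = _
  refine congrArg χ' (Subtype.ext ?_)
  show y (i.symm (i v)) = y v
  rw [i.symm_apply_apply]

theorem exists_chart (d : Data p F Z θ F' D) (hU₀ : U₀ ≤ pre θ T') (hZ₀ : Z ≤ U₀)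
    (hn : D.IsFullyNormalized (imageAlong θ U₀)) {U : Subgroup Ω} (hU : U ≤ pre θ T')
    (hZ : Z ≤ U) (hconj : D.IsConj (imageAlong θ U) (imageAlong θ U₀)) :
    ∃ χ ∈ (liftSys d).Hom (normalizerIn (pre θ T') U), H85.img χ U = U₀ := by
  have := finite_target d
  have := finite_base d
  have hU₀S := hU₀.trans (pre_le θ T')
  have hUS := hU.trans (pre_le θ T')
  obtain ⟨ψ', hψ', -, himg⟩ := H85.exists_map_to_fullyNormalized
    ((isPGroup_target d).to_le (le_target d)) (satD d) hn hconj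
  obtain ⟨ℓ, hℓ, hle⟩ := exists_liftL d hψ'
  have hp := (preimage_normalizer d hU hZ).ge
  refine ⟨_, H85.restrict hℓ hp, le_antisymm ?_ ?_⟩
  · intro y hy
    obtain ⟨x, hx, rfl⟩ := H85.mem_img.1 hy
    obtain ⟨h1, h3⟩ := mem_preimageAlong.1 (hp x.2)
    refine (preimage_image_eq d hU₀S hZ₀).le (mem_preimageAlong.2
      ⟨pre_le θ T' (((liftSys d).le_of_mem hℓ).2 _), ?_⟩)
    rw [show θ ⟨(ℓ.comp (Subgroup.inclusion hp)) x, _⟩ = ψ' ⟨θ ⟨x, h1⟩, h3⟩ from
      hle (Subgroup.inclusion hp x) h1 _ h3, ← himg]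
    exact H85.apply_mem_img (φ := ψ') (x := (⟨θ ⟨x, h1⟩, h3⟩ : normalizerIn T' (imageAlong θ U)))
      (mem_image' θ hUS ⟨x, hx⟩)
  · intro y hy
    obtain ⟨z, hz, hzy⟩ := H85.mem_img.1 (himg.ge (mem_image' θ hU₀S ⟨y, hy⟩))
    obtain ⟨u, hu⟩ := surj_image (θ := θ) hUS ⟨_, hz⟩
    have huN : (u : Ω) ∈ normalizerIn (pre θ T') U := H85.le_normalizerIn hU u.2
    have hℓS := pre_le θ T' (((liftSys d).le_of_mem hℓ).2 (Subgroup.inclusion hp ⟨u, huN⟩))
    obtain ⟨_, h3⟩ := mem_preimageAlong.1 (hp huN)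
    have h1 : θ ⟨_, hℓS⟩ = θ ⟨y, hU₀S hy⟩ :=
      (hle (Subgroup.inclusion hp ⟨u, huN⟩) (hUS u.2) hℓS h3).trans
        ((congrArg ψ' (Subtype.ext hu)).trans hzy)
    have hk : (ℓ (Subgroup.inclusion hp ⟨u, huN⟩))⁻¹ * y ∈ Z :=
      (d.hθ.2.1 (⟨_, hℓS⟩⁻¹ * ⟨y, hU₀S hy⟩)).1 (by rw [map_mul, map_inv, h1, inv_mul_cancel])
    refine H85.mem_img.2 ⟨⟨u, huN⟩ * ⟨_, H85.le_normalizerIn hU (hZ hk)⟩,
      U.mul_mem u.2 (hZ hk), ?_⟩
    rw [map_mul]
    show ℓ _ * ℓ _ = y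
    rw [show ℓ (Subgroup.inclusion hp ⟨_, H85.le_normalizerIn hU (hZ hk)⟩) = _ from
      fix d (liftSys_sub d _ hℓ) hk]
    exact mul_inv_cancel_left _ _

set_option maxHeartbeats 1000000 in
theorem uniq_fn (d : Data p F Z θ F' D) (hU₀ : U₀ ≤ pre θ T') (hZ₀ : Z ≤ U₀)
    (hc : D.IsCentric (imageAlong θ U₀)) (hn : D.IsFullyNormalized (imageAlong θ U₀))
    (hlt : Nat.card U₀ < Nat.card (pre θ T'))
    (hu : ∀ V : Subgroup Ω, Z ≤ V → V ≤ pre θ T' → D.IsCentric (imageAlong θ V) →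
      Nat.card U₀ < Nat.card V → Uniq d V) : Uniq d U₀ := by
  have := finite_target d
  have := finite_base d
  have := H85.finite_of_le (pre_le θ T')
  obtain ⟨C, hC⟩ := isDefectKernel_exists d hU₀ hZ₀ hc hn
  have hTp : IsPGroup p (pre θ T') := d.hS.to_le (pre_le θ T')
  have hbig : ∀ {U : Subgroup Ω}, U ≤ pre θ T' → Nat.card U = Nat.card U₀ →
      Nat.card U < Nat.card (normalizerIn (pre θ T') U) := fun {U} hU hcard => by
    refine card_lt_card_normalizerIn hTp le_rfl (lt_of_le_of_ne hU ?_)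
    rintro rfl
    omega
  let L₀ : FusionSystem (pre θ T') :=
    { Hom := fun P => {φ | φ ∈ (liftSys d).Hom P ∧ GoodAt d C P φ}
      le_of_mem := fun h => (liftSys d).le_of_mem h.1
      injective_of_mem := fun h => (liftSys d).injective_of_mem h.1
      conj_mem := by
        intro P g hP hg
        refine ⟨(liftSys d).conj_mem hP hg, fun U hUP hZ hconj χ hχ hχU χ' hχ' hχU' => ?_⟩
        have hU := hUP.trans hP
        have hUN := H85.le_normalizerIn hU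
        have hy := (liftSys d).conj_mem (P := normalizerIn (pre θ T') U) inf_le_left hg
        obtain ⟨c, hc₁, hce⟩ := chart_of_extend d hC hU₀ hZ₀ hc hn hu hU hUN
          (hbig hU (card_eq_of_img d hχ hUN hχU)) le_rfl hy
          (H85.img_congr hUN hUP fun x => rfl) hχ hχU hχ' hχU'
        exact ⟨c, hc₁, fun x hx h1 h2 h3 => hce ⟨x, h1⟩ hx h2 h3⟩
      comp_mem := by
        rintro P Q φ ψ ⟨hφ, hφg⟩ ⟨hψ, hψg⟩ h
        refine ⟨(liftSys d).comp_mem hφ hψ h, fun U hUP hZ hconj χ hχ hχU χ' hχ' hχU' => ?_⟩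
        have hU := hUP.trans (H85.source_le hφ)
        have hUQ : H85.img φ U ≤ Q := fun w hw => by
          obtain ⟨x, -, rfl⟩ := H85.mem_img.1 hw
          exact h x
        have hconj' : D.IsConj (imageAlong θ (H85.img φ U)) (imageAlong θ U₀) :=
          H85.isConj_trans (H85.isConj_symm (image_conj d hφ hUP)) hconj
        obtain ⟨χm, hχm, hχmU⟩ := exists_chart d hU₀ hZ₀ hn (img_le_pre d hφ)
          (z_le_img d hφ hUP hZ) hconj'
        obtain ⟨c, hc₁, hce⟩ := hφg U hUP hZ hconj χ hχ hχU χm hχm hχmU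
        have hii : H85.img (ψ.comp (φ.codRestrict Q h)) U = H85.img ψ (H85.img φ U) :=
          H85.img_img h hφ
        obtain ⟨χ₁, hχ₁, hχ₁U, hχ₁e⟩ := chart_congr d hii hχ' hχU'
        obtain ⟨c', hc₂, hce'⟩ := hψg (H85.img φ U) hUQ (z_le_img d hφ hUP hZ) hconj' χm hχm hχmU
          χ₁ hχ₁ hχ₁U
        refine ⟨c' * c, mul_mem hc₂ hc₁, fun x hx h1 h2 h3 => ?_⟩
        have hφx : φ x ∈ H85.img φ U := H85.apply_mem_img hx
        have h2m : φ x ∈ normalizerIn (pre θ T') (H85.img φ U) :=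
          H85.le_normalizerIn (img_le_pre d hφ) hφx
        have h3m : χm ⟨φ x, h2m⟩ ∈ U₀ := hχmU ▸ H85.apply_mem_img (φ := χm)
          (x := (⟨φ x, h2m⟩ : normalizerIn (pre θ T') (H85.img φ U))) hφx
        rw [Subgroup.coe_mul, MulAut.mul_apply, show (c : MulAut U₀) ⟨χ ⟨x, h1⟩, h3⟩ =
          ⟨χm ⟨φ x, h2m⟩, h3m⟩ from Subtype.ext (hce x hx h1 h2m h3)]
        exact (hce' ⟨φ x, h x⟩ hφx h2m (hii ▸ h2) h3m).trans (hχ₁e _ h2 _)
      inv_mem := by
        rintro P φ ⟨hφ, hφg⟩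
        obtain ⟨ψ, hψ, hψe⟩ := (liftSys d).inv_mem hφ
        refine ⟨ψ, ⟨hψ, fun U hUP hZ hconj χ hχ hχU χ' hχ' hχU' => ?_⟩, hψe⟩
        have hWP : H85.img ψ U ≤ P := fun w hw => by
          obtain ⟨⟨_, x, rfl⟩, -, rfl⟩ := H85.mem_img.1 hw
          rw [hψe]
          exact x.2
        have hback : H85.img φ (H85.img ψ U) = U := by
          refine le_antisymm ?_ fun y hy => ?_
          · intro y hy
            obtain ⟨x, hx, rfl⟩ := H85.mem_img.1 hy
            obtain ⟨⟨_, x', rfl⟩, hx', he⟩ := H85.mem_img.1 hx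
            rw [hψe] at he
            rw [← (Subtype.ext he : x' = x)]
            exact hx'
          · obtain ⟨x, rfl⟩ := hUP hy
            exact H85.apply_mem_img (φ := φ) (x := x)
              (H85.mem_img.2 ⟨⟨_, x, rfl⟩, hy, hψe x⟩)
        have hconjW : D.IsConj (imageAlong θ (H85.img ψ U)) (imageAlong θ U₀) :=
          H85.isConj_trans (H85.isConj_symm (image_conj d hψ hUP)) hconj
        have hUN : U ≤ normalizerIn (pre θ T') U :=
          H85.le_normalizerIn (hUP.trans (H85.range_le hφ))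
        obtain ⟨χ₁, hχ₁, hχ₁U, hχ₁e⟩ := chart_congr d hback.symm hχ hχU
        obtain ⟨c, hc₁, hce⟩ := hφg (H85.img ψ U) hWP (z_le_img d hψ hUP hZ) hconjW χ' hχ' hχU'
          χ₁ hχ₁ hχ₁U
        refine ⟨c⁻¹, inv_mem hc₁, fun x hx h1 h2 h3 => ?_⟩
        obtain ⟨_, x', rfl⟩ := x
        have hpx : ψ ⟨φ x', x', rfl⟩ = x' := hψe x'
        have hxW : (x' : Ω) ∈ H85.img ψ U := hpx ▸ H85.apply_mem_img (φ := ψ) hx
        have hxN : (x' : Ω) ∈ normalizerIn (pre θ T') (H85.img ψ U) :=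
          H85.le_normalizerIn (img_le_pre d hψ) hxW
        have h3' : χ' ⟨x', hxN⟩ ∈ U₀ := hχU' ▸ H85.apply_mem_img (φ := χ')
          (x := (⟨x', hxN⟩ : normalizerIn (pre θ T') (H85.img ψ U))) hxW
        have h4 := hce x' hxW hxN (hback.symm ▸ h1) h3'
        have h5 : (c : MulAut U₀) ⟨χ' ⟨x', hxN⟩, h3'⟩ = ⟨χ ⟨φ x', h1⟩, h3⟩ :=
          Subtype.ext (h4.trans (hχ₁e _ h1 _))
        rw [← h5, Subgroup.coe_inv, MulAut.inv_apply_self]
        exact congrArg χ' (Subtype.ext hpx.symm) }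
  have hle : liftSys d ≤ L₀ := by
    refine residual_le (naive d) ?_
    intro W hZW hW hcW a ha hord
    have haL := goodL_liftSys d W hZW hW hcW a ha hord
    have haLH := (H85.mem_autGroup hW).1 haL
    refine (H85.mem_autGroup hW).2 ⟨haLH, fun U hUW hZ hconj χ hχ hχU χ' hχ' hχU' => ?_⟩
    have : Finite W := H85.finite_of_le (hW.trans (pre_le θ T'))
    have hU := hUW.trans hW
    have hUN := H85.le_normalizerIn hU
    have hcardU := card_eq_of_img d hχ hUN hχU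
    rcases eq_or_lt_of_le hUW with rfl | hUlt
    · -- `U = W`
      set φa : U →* Ω := U.subtype.comp a.toMonoidHom with hφadef
      have himgU : H85.img φa U = U := img_eq_of_mapsTo haLH le_rfl fun x _ => (a x).2
      obtain ⟨c₁, hc₁, hce₁⟩ := chart_of_extend d hC hU₀ hZ₀ hc hn hu hU hUN
        (hbig hU hcardU) le_rfl (H85.id_mem (liftSys d) inf_le_left)
        (U' := H85.img φa U) (by
          rw [himgU]
          refine le_antisymm ?_ fun y hy =>
            H85.mem_img.2 ⟨⟨y, hUN hy⟩, hy, rfl⟩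
          intro y hy
          obtain ⟨x, hx, rfl⟩ := H85.mem_img.1 hy
          exact hx) hχ hχU hχ' hχU'
      let i : U ≃* U₀ := (H85.resIso χ ((liftSys d).injective_of_mem hχ) hUN).trans
        (MulEquiv.subgroupCongr hχU)
      have hi : H85.IsFIso F i :=
        H85.hom_congr (H85.restrict (liftSys_sub d _ hχ) hUN) fun _ => rfl
      have ha₂ := naive_congr d hU hi ha
      have hc₂ : (⟨_, ha₂⟩ : (naive d).autGroup U₀) ∈ C := coprime_mem_kernel d hC _ (by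
        rw [← Subgroup.orderOf_coe, MulEquiv.orderOf_eq (MulAut.congr i) a]
        exact hord)
      refine ⟨c₁ * ⟨_, ha₂⟩, mul_mem hc₁ hc₂, fun x hx h1 h2 h3 => ?_⟩
      have hax : ((a x : U) : Ω) ∈ normalizerIn (pre θ T') U := hUN (a x).2
      have h3a : χ ⟨(a x : Ω), hax⟩ ∈ U₀ := hχU ▸ H85.apply_mem_img (φ := χ)
        (x := (⟨(a x : Ω), hax⟩ : normalizerIn (pre θ T') U)) (a x).2
      have h5 : MulAut.congr i a ⟨χ ⟨x, h1⟩, h3⟩ = ⟨χ ⟨(a x : Ω), hax⟩, h3a⟩ := by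
        have : (⟨χ ⟨x, h1⟩, h3⟩ : U₀) = i x := Subtype.ext rfl
        rw [this]
        show i (a (i.symm (i x))) = _
        rw [i.symm_apply_apply]
        exact Subtype.ext rfl
      rw [Subgroup.coe_mul, MulAut.mul_apply, h5]
      exact hce₁ ⟨(a x : Ω), hax⟩ (a x).2 h2 h3a
    · obtain ⟨c, hc₁, hce⟩ := chart_of_extend d hC hU₀ hZ₀ hc hn hu hU
        (H85.le_normalizerIn hUW : U ≤ normalizerIn W U)
        (card_lt_card_normalizerIn hTp hW hUlt) (inf_le_inf_right _ hW)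
        (H85.restrict haLH (inf_le_left : normalizerIn W U ≤ W))
        (H85.img_congr (H85.le_normalizerIn hUW : U ≤ normalizerIn W U) hUW fun x => rfl)
        hχ hχU hχ' hχU'
      exact ⟨c, hc₁, fun x hx h1 h2 h3 =>
        (hce ⟨x, x.2, h1.2⟩ hx h2 h3)⟩
  intro k hk hkt
  have hUN := H85.le_normalizerIn hU₀
  obtain ⟨χ, hχ, hχU⟩ := exists_chart d hU₀ hZ₀ hn hU₀ hZ₀ (H85.isConj_refl D hn.1)
  have hkH := (H85.mem_autGroup hU₀).1 hk
  have : Finite U₀ := H85.finite_of_le (hU₀.trans (pre_le θ T'))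
  set φk : U₀ →* Ω := U₀.subtype.comp k.toMonoidHom with hφkdef
  have himgk : H85.img φk U₀ = U₀ := img_eq_of_mapsTo hkH le_rfl fun x _ => (k x).2
  obtain ⟨χ₁, hχ₁, hχ₁U, hχ₁e⟩ := chart_congr d himgk.symm hχ hχU
  obtain ⟨c, hc₁, hce⟩ := (hle _ hkH).2 U₀ le_rfl hZ₀ (H85.isConj_refl D hn.1) χ hχ hχU
    χ₁ hχ₁ hχ₁U
  have hmaps : ∀ x : normalizerIn (pre θ T') U₀, (x : Ω) ∈ U₀ → χ x ∈ U₀ := fun x hx =>
    hχU.le (H85.apply_mem_img (φ := χ) hx)
  obtain ⟨c₀, hc₀, hce₀⟩ := agrees_of_stab d hC hU₀ hZ₀ hc hn hu hUN (hbig hU₀ rfl) le_rfl hχ hmaps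
  have hkG : k ∈ (naive d).autGroup U₀ := H85.autGroup_mono (liftSys_le_naive d) U₀ hk
  have hkeq : (⟨k, hkG⟩ : (naive d).autGroup U₀) = c₀⁻¹ * c * c₀ := by
    refine Subtype.ext (MulEquiv.ext fun x => ?_)
    simp only [Subgroup.coe_mul, Subgroup.coe_inv, MulAut.mul_apply]
    apply (c₀ : MulAut U₀).injective
    rw [MulAut.apply_inv_self]
    have h1 := hce x x.2 (hUN x.2)
      (H85.le_normalizerIn (img_le_pre d hkH) (H85.apply_mem_img (φ := φk) x.2))
      (hmaps _ x.2)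
    refine Subtype.ext ((hce₀ (k x) (hUN (k x).2)).symm.trans (Eq.trans ?_ (h1.symm.trans ?_)))
    · exact (hχ₁e _ (hUN (k x).2) _).symm
    · exact congrArg (fun z => (((c : MulAut U₀) z : U₀) : Ω)) (Subtype.ext (hce₀ x (hUN x.2)))
  have hkC : (⟨k, hkG⟩ : (naive d).autGroup U₀) ∈ C := hkeq ▸
    mul_mem (mul_mem (inv_mem hc₀) hc₁) hc₀
  exact hC.inner ⟨k, hkG⟩ hkt hkC

theorem uniq_of_conj (d : Data p F Z θ F' D) {U : Subgroup Ω} (hU : U ≤ pre θ T')
    {e : U ≃* U₀} (he : H85.IsFIso (liftSys d) e) (h : Uniq d U₀) : Uniq d U := by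
  intro k hk hkt
  have := H85.finite_of_le (pre_le θ T')
  exact congr_inn e (h _ (H85.congr_mem_autGroup he hk)
    (congr_triv d (liftSys_sub d _ he) hkt))

/-- The loop theorem. -/
theorem uniq_all (d : Data p F Z θ F' D) {U : Subgroup Ω} (hZ : Z ≤ U) (hU : U ≤ pre θ T')
    (hc : D.IsCentric (imageAlong θ U)) : Uniq d U := by
  have := finite_target d
  have := finite_base d
  have := H85.finite_of_le (pre_le θ T')
  suffices H : ∀ (n : ℕ) (U : Subgroup Ω), Z ≤ U → U ≤ pre θ T' → D.IsCentric (imageAlong θ U) →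
      Nat.card (pre θ T') - Nat.card U ≤ n → Uniq d U from H _ U hZ hU hc le_rfl
  intro n
  induction n using Nat.strong_induction_on with
  | _ n ih =>
  intro U hZ hU hc hn
  obtain ⟨U', hU', hU'n⟩ := H85.exists_fullyNormalized D (image_le_base (θ := θ) hU)
  obtain ⟨φ', hφ', rfl⟩ := hU'
  obtain ⟨ℓ, hℓ, hle⟩ := exists_liftL d hφ'
  have hUS := hU.trans (pre_le θ T')
  have hp : U ≤ preimageAlong θ (imageAlong θ U) := (preimage_image_eq d hUS hZ).ge
  have hℓU := H85.restrict hℓ hp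
  obtain ⟨U₁, hU₁⟩ : ∃ U₁, (ℓ.comp (Subgroup.inclusion hp)).range = U₁ := ⟨_, rfl⟩
  have hU₁T : U₁ ≤ pre θ T' := hU₁ ▸ H85.range_le hℓU
  have hU₁Z : Z ≤ U₁ := fun z hz => hU₁ ▸ ⟨⟨z, hZ hz⟩, fix d (liftSys_sub d _ hℓU) hz⟩
  have himg : imageAlong θ U₁ = φ'.range := by
    rw [← hU₁]
    ext y
    constructor
    · intro hy
      obtain ⟨s, ⟨x, hx⟩, rfl⟩ := mem_imageAlong.1 hy
      refine ⟨⟨_, mem_image' θ hUS x⟩, ?_⟩
      refine (hle (Subgroup.inclusion hp x) (hUS x.2)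
        (pre_le θ T' (((liftSys d).le_of_mem hℓ).2 _)) (mem_image' θ hUS x)).symm.trans ?_
      exact congrArg θ (Subtype.ext hx)
    · rintro ⟨z, rfl⟩
      obtain ⟨x, hx⟩ := surj_image (θ := θ) hUS z
      have hℓS := pre_le θ T' (((liftSys d).le_of_mem hℓ).2 (Subgroup.inclusion hp x))
      have h1 := hle (Subgroup.inclusion hp x) (hUS x.2) hℓS (mem_image' θ hUS x)
      rw [show z = ⟨_, mem_image' θ hUS x⟩ from Subtype.ext hx.symm]
      refine h1 ▸ ?_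
      exact mem_image (x := (⟨_, hℓS⟩ : S)) ⟨x, rfl⟩
  refine uniq_of_conj d hU (H85.isFIso_isoOf _ hℓU hU₁) ?_
  have hcard : Nat.card U = Nat.card U₁ :=
    Nat.card_congr (H85.isoOf _ hℓU hU₁).toEquiv
  have hc₁ : D.IsCentric (imageAlong θ U₁) :=
    himg.symm ▸ H85.centric_of_isConj hc ⟨φ', hφ', rfl⟩
  rcases eq_or_lt_of_le (Subgroup.card_le_of_le hU₁T) with heq | hlt
  · rw [Subgroup.eq_of_le_of_card_ge hU₁T heq.ge]
    exact uniq_top d
  · refine uniq_fn d hU₁T hU₁Z hc₁ (himg.symm ▸ hU'n) hlt fun V hZV hV hcV hVlt =>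
      ih (Nat.card (pre θ T') - Nat.card V) ?_ V hZV hV hcV le_rfl
    have := Subgroup.card_le_of_le hV
    omega

end H86.CLift
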