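import Cfsg.Agent.H86.CentralLift.Loop

/-! The central lift: a normal subsystem of `F/Z` over `T'` lifts to a weakly normal subsystem of `F`
over the preimage of `T'`. -/

set_option autoImplicit false
set_option linter.unusedSectionVars false
set_option linter.unusedVariables false

open Cfsg Cfsg.FusionSystem

namespace H86.CLift

variable {Ω : Type*} [Group Ω] {Ω' : Type*} [Group Ω'] {S : Subgroup Ω} {S' T' : Subgroup Ω'}
variable [Finite S] {p : ℕ} [Fact p.Prime] {F : FusionSystem S} {Z : Subgroup Ω} {θ : S →* Ω'}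
  {F' : FusionSystem S'} {D : FusionSystem T'}

theorem exists_conj_lift (d : Data p F Z θ F' D) {U : Subgroup Ω} (hU : U ≤ pre θ T') (hZ : Z ≤ U)
    {U' : Subgroup Ω'} (h : D.IsConj (imageAlong θ U) U') :
    ∃ U₁, (liftSys d).IsConj U U₁ ∧ Z ≤ U₁ ∧ U₁ ≤ pre θ T' ∧ imageAlong θ U₁ = U' := by
  obtain ⟨φ', hφ', rfl⟩ := h
  obtain ⟨ℓ, hℓ, hle⟩ := exists_liftL d hφ'
  have hUS := hU.trans (pre_le θ T')
  have hp : U ≤ preimageAlong θ (imageAlong θ U) := (preimage_image_eq d hUS hZ).ge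
  have hℓU := H85.restrict hℓ hp
  refine ⟨_, ⟨_, hℓU, rfl⟩, fun z hz => ⟨⟨z, hZ hz⟩, fix d (liftSys_sub d _ hℓU) hz⟩,
    H85.range_le hℓU, ?_⟩
  ext y
  constructor
  · intro hy
    obtain ⟨s, ⟨x, hx⟩, rfl⟩ := mem_imageAlong.1 hy
    refine ⟨⟨_, mem_image' θ hUS x⟩, ?_⟩
    refine (hle (Subgroup.inclusion hp x) (hUS x.2)
      (pre_le θ T' (((liftSys d).le_of_mem hℓ).2 _)) (mem_image' θ hUS x)).symm.trans ?_
    exact congrArg θ (Subtype.ext hx)
  · rintro ⟨z, rfl⟩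
    obtain ⟨x, hx⟩ := surj_image (θ := θ) hUS z
    have hℓS := pre_le θ T' (((liftSys d).le_of_mem hℓ).2 (Subgroup.inclusion hp x))
    have h1 := hle (Subgroup.inclusion hp x) (hUS x.2) hℓS (mem_image' θ hUS x)
    rw [show z = ⟨_, mem_image' θ hUS x⟩ from Subtype.ext hx.symm]
    refine h1 ▸ ?_
    exact mem_image (x := (⟨_, hℓS⟩ : S)) ⟨x, rfl⟩

theorem fullyAutomized_lift (d : Data p F Z θ F' D) {U : Subgroup Ω} (hU : U ≤ pre θ T')
    (hZ : Z ≤ U) (hc : D.IsCentric (imageAlong θ U)) (hn : D.IsFullyNormalized (imageAlong θ U)) :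
    (liftSys d).IsFullyAutomized p U := by
  have := finite_target d
  have := finite_base d
  have := H85.finite_of_le (pre_le θ T')
  have hTp : IsPGroup p (pre θ T') := d.hS.to_le (pre_le θ T')
  have : Finite U := H85.finite_of_le (hU.trans (pre_le θ T'))
  have : Finite (MulAut U) := Finite.of_injective (fun e => (e : U → U)) DFunLike.coe_injective
  have : Finite (imageAlong θ U) := H85.finite_of_le hn.1
  have : Finite (MulAut (imageAlong θ U)) := Finite.of_injective _ DFunLike.coe_injective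
  set A := (liftSys d).autGroup U with hAdef
  set R₀ : Subgroup A := (autInducedBy (pre θ T') U).subgroupOf A with hR₀def
  let ι : A →* (naive d).autGroup U :=
    Subgroup.inclusion (H85.autGroup_mono (liftSys_le_naive d) U)
  let f : A →* D.autGroup (imageAlong θ U) :=
    ((red d hU).codRestrict _ (red_mem d hU)).comp ι
  have hker : f.ker ≤ R₀ := fun a ha => H85.inn_le_autInducedBy hU
    (uniq_all d hZ hU hc _ a.2 ((red_ker d hU (ι a)).1 (MonoidHom.mem_ker.2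
      (congrArg Subtype.val (MonoidHom.mem_ker.1 ha)))))
  obtain ⟨-, W, hW⟩ := H85.fullyAutomized_of_fullyNormalized
    ((isPGroup_target d).to_le (le_target d)) (satD d) hn
  have hle : (W : Subgroup (D.autGroup (imageAlong θ U))) ≤ R₀.map f := by
    intro b hb
    rw [hW] at hb
    obtain ⟨a, ha, hab⟩ := red_surjOn_induced d hU hZ hb
    exact ⟨⟨a, H85.autInducedBy_le_autGroup (liftSys d) hU ha⟩, ha, Subtype.ext hab⟩
  have hidx : ¬ p ∣ R₀.index := by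
    intro hp
    refine W.not_dvd_index (hp.trans ?_)
    refine dvd_trans ?_ (Subgroup.index_dvd_of_le hle)
    rw [Subgroup.index_map, sup_eq_left.2 hker]
    exact dvd_mul_right _ _
  have hp₀ : IsPGroup p R₀ :=
    (H85.autInducedBy_isPGroup hTp U).comap_of_injective A.subtype A.subtype_injective
  exact ⟨hU, hp₀.toSylow hidx, rfl⟩

theorem receptive_lift (d : Data p F Z θ F' D) {U : Subgroup Ω} (hU : U ≤ pre θ T')
    (hZ : Z ≤ U) (hc : D.IsCentric (imageAlong θ U)) (hn : D.IsFullyNormalized (imageAlong θ U)) :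
    (liftSys d).IsReceptive U := by
  have := finite_target d
  have := finite_base d
  have := H85.finite_of_le (pre_le θ T')
  refine ⟨hU, fun Q φ hφ hr => ?_⟩
  have hQ := H85.source_le hφ
  have hQS := hQ.trans (pre_le θ T')
  have : Finite Q := H85.finite_of_le hQS
  obtain ⟨-, -, φ', hφ', hind⟩ := liftSys_le_naive d _ hφ
  have hr' : φ'.range = imageAlong θ U := (range_eq_of_induced hind).trans (by rw [hr])
  obtain ⟨hQS₁, hφS, hQ', he⟩ := hind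
  obtain ⟨ψ', hψ', hext⟩ := (H85.receptive_of_fullyNormalized
    ((isPGroup_target d).to_le (le_target d)) (satD d) hn).2 _ φ' hφ' hr'
  obtain ⟨ℓ, hℓ, hle⟩ := exists_liftL d hψ'
  have hQX : Q ≤ extender (pre θ T') Q φ := H85.le_extender hQ ((liftSys d).le_of_mem hφ).2
  have hXp : extender (pre θ T') Q φ ≤
      preimageAlong θ (extender T' (imageAlong θ Q) φ') := by
    intro g hg
    obtain ⟨hgT, hgN, h, hh, hgh⟩ := H85.mem_extender.1 hg
    obtain ⟨hgS, hg'⟩ := mem_preimageAlong.1 hgT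
    obtain ⟨hhS, hh'⟩ := mem_preimageAlong.1 hh
    have : Finite (imageAlong θ Q) := H85.finite_of_le (image_le d Q)
    refine mem_preimageAlong.2 ⟨hgS, H85.mem_extender.2 ⟨hg',
      H85.mem_normalizer_of_conj fun y hy => ?_, θ ⟨h, hhS⟩, hh', fun y hy => ?_⟩⟩
    · obtain ⟨x, hx⟩ := surj_image (θ := θ) hQS ⟨y, hy⟩
      have hx' : θ ⟨x, hQS x.2⟩ = y := hx
      rw [← hx', ← map_inv, ← map_mul, ← map_mul]
      exact mem_image' θ hQS ⟨_, H85.conj_mem_of_mem_normalizer hgN x.2⟩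
    · obtain ⟨x, hx⟩ := surj_image (θ := θ) hQS y
      have hy' : g * (x : Ω) * g⁻¹ ∈ Q := H85.conj_mem_of_mem_normalizer hgN x.2
      obtain ⟨y, hy0⟩ := y
      obtain rfl : θ ⟨x, hQS x.2⟩ = y := hx
      rw [show (⟨θ ⟨g, hgS⟩ * θ ⟨x, hQS x.2⟩ * (θ ⟨g, hgS⟩)⁻¹, hy⟩ : imageAlong θ Q) =
        ⟨_, hQ' ⟨_, hy'⟩⟩ from Subtype.ext (by
          show θ ⟨g, hgS⟩ * θ ⟨x, hQS x.2⟩ * (θ ⟨g, hgS⟩)⁻¹ = θ ⟨g * (x : Ω) * g⁻¹, hQS hy'⟩
          rw [← map_inv, ← map_mul, ← map_mul]; rfl),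
        show (⟨θ ⟨x, hQS x.2⟩, hy0⟩ : imageAlong θ Q) = ⟨_, hQ' x⟩ from rfl, he, he, ← map_inv,
        ← map_mul, ← map_mul]
      exact congrArg θ (Subtype.ext (hgh x hy'))
  have hℓX := H85.restrict hℓ hXp
  have hℓS : ∀ x, ℓ x ∈ S := fun x => pre_le θ T' (((liftSys d).le_of_mem hℓ).2 x)
  have hℓQ : ∀ x : Q, (φ x)⁻¹ * ℓ (Subgroup.inclusion (hQX.trans hXp) x) ∈ Z := fun x => by
    obtain ⟨h1, h3⟩ := mem_preimageAlong.1 ((hQX.trans hXp) x.2)
    have h4 : θ ⟨ℓ (Subgroup.inclusion (hQX.trans hXp) x), hℓS _⟩ = θ ⟨φ x, hφS x⟩ :=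
      (hle (Subgroup.inclusion (hQX.trans hXp) x) h1 _ h3).trans
        ((hext _ (hQ' x) h3).trans (he x))
    exact (d.hθ.2.1 (⟨φ x, hφS x⟩⁻¹ * ⟨_, hℓS _⟩)).1
      (by rw [map_mul, map_inv, h4, inv_mul_cancel])
  have hZQ : Z ≤ Q := fun z hz => by
    obtain ⟨x, hx⟩ := hr.ge (hZ hz)
    obtain ⟨f, hf, hfe⟩ := (liftSys d).inv_mem hφ
    have h2 := fix d (liftSys_sub d _ hf) (x := ⟨z, x, hx⟩) hz
    have h3 : f ⟨z, x, hx⟩ = (x : Ω) := (congrArg f (Subtype.ext hx.symm)).trans (hfe x)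
    have h4 : (x : Ω) = z := (h2.symm.trans h3).symm
    exact h4 ▸ x.2
  have hcQ : D.IsCentric (imageAlong θ Q) :=
    H85.centric_of_isConj hc (H85.isConj_symm ⟨φ', hφ', hr'⟩)
  -- `k = φ⁻¹ ℓ` is inner
  let e := H85.isoOf φ hφ rfl
  have hm : ∀ x : Q, ℓ (Subgroup.inclusion (hQX.trans hXp) x) ∈ φ.range := fun x =>
    ⟨x * ⟨_, hZQ (hℓQ x)⟩, by
      rw [map_mul, show φ ⟨_, hZQ (hℓQ x)⟩ = _ from fix d (liftSys_sub d _ hφ) (hℓQ x),
        mul_inv_cancel_left]⟩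
  have hk := H85.comp_iso (H85.restrict hℓ (hQX.trans hXp)) hm (H85.isFIso_isoOf φ hφ rfl).symm
  have hkv : ∀ x : Q, (((e.symm ⟨_, hm x⟩ : Q)) : Ω) = x * ((φ x)⁻¹ *
      ℓ (Subgroup.inclusion (hQX.trans hXp) x)) := fun x => by
    refine congrArg Subtype.val ((MulEquiv.symm_apply_eq e).2 (Subtype.ext ?_) :
      e.symm ⟨_, hm x⟩ = x * ⟨_, hZQ (hℓQ x)⟩)
    show ℓ _ = φ (x * ⟨_, hZQ (hℓQ x)⟩)
    rw [map_mul, show φ ⟨_, hZQ (hℓQ x)⟩ = _ from fix d (liftSys_sub d _ hφ) (hℓQ x),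
      mul_inv_cancel_left]
  have hkr : ((Q.subtype.comp e.symm.toMonoidHom).comp
      ((ℓ.comp (Subgroup.inclusion (hQX.trans hXp))).codRestrict φ.range hm)).range = Q :=
    range_eq_self_of_le _ hk (by rintro _ ⟨x, rfl⟩; exact SetLike.coe_mem _)
  obtain ⟨w, hw⟩ := uniq_all d hZQ hQ hcQ _ (autOfHom_mem _ hk hkr) fun x => by
    show (x : Ω)⁻¹ * ((e.symm ⟨_, hm x⟩ : Q) : Ω) ∈ Z
    rw [hkv, inv_mul_cancel_left]
    exact hℓQ x
  have hwX : ∀ x ∈ extender (pre θ T') Q φ, (w : Ω)⁻¹ * x * w ∈ extender (pre θ T') Q φ :=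
    fun x hx => mul_mem (mul_mem (inv_mem (hQX w.2)) hx) (hQX w.2)
  have hcj := (liftSys d).conj_mem (P := extender (pre θ T') Q φ) (H85.extender_le _ _)
    (inv_mem (hQ w.2))
  refine ⟨_, (liftSys d).comp_mem hcj hℓX (fun x => by
    rw [H85.conjHom_apply, inv_inv]; exact hwX x x.2), fun x hx hX => ?_⟩
  show ℓ ⟨(w : Ω)⁻¹ * x * (w : Ω)⁻¹⁻¹, _⟩ = φ ⟨x, hx⟩
  have hy : (w : Ω)⁻¹ * x * (w : Ω) ∈ Q := Q.mul_mem (Q.mul_mem (Q.inv_mem w.2) hx) w.2
  have h1 := DFunLike.congr_fun hw ⟨_, hy⟩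
  have h2 : (e.symm ⟨_, hm ⟨_, hy⟩⟩ : Q) = ⟨x, hx⟩ := h1.symm.trans (Subtype.ext (by
    show (w : Ω) * ((w : Ω)⁻¹ * x * w) * (w : Ω)⁻¹ = x
    group))
  have h3 := congrArg Subtype.val ((MulEquiv.symm_apply_eq e).1 h2)
  refine (congrArg ℓ (Subtype.ext ?_)).trans h3
  show (w : Ω)⁻¹ * x * (w : Ω)⁻¹⁻¹ = (w : Ω)⁻¹ * x * (w : Ω)
  rw [inv_inv]

theorem isSaturated_liftSys (d : Data p F Z θ F' D) : (liftSys d).IsSaturated p := by
  have := finite_target d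
  have := finite_base d
  have := H85.finite_of_le (pre_le θ T')
  have hTp : IsPGroup p (pre θ T') := d.hS.to_le (pre_le θ T')
  let ℋ : Set (Subgroup Ω) := {P | P ≤ pre θ T' ∧ Z ≤ P ∧ D.IsCentric (imageAlong θ P)}
  refine H85.isSaturated_of_generated hTp (liftSys d) ℋ ?_ ?_ ?_ ?_
  · rintro P ⟨hP, hZ, hc⟩ Q ⟨φ, hφ, rfl⟩
    have hi : H85.img φ P = φ.range := H85.img_self φ
    exact ⟨H85.range_le hφ, hi ▸ z_le_img d hφ le_rfl hZ,
      hi ▸ H85.centric_of_isConj hc (image_conj d hφ le_rfl)⟩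
  · rintro P ⟨hP, hZ, hc⟩
    obtain ⟨U', hU', hn⟩ := H85.exists_fullyNormalized D hc.1
    obtain ⟨U₁, hU₁, hZ₁, hU₁T, rfl⟩ := exists_conj_lift d hP hZ hU'
    have hc₁ := H85.centric_of_isConj hc hU'
    exact ⟨U₁, hU₁, fullyAutomized_lift d hU₁T hZ₁ hc₁ hn, receptive_lift d hU₁T hZ₁ hc₁ hn⟩
  · intro E hE P φ hφ
    refine hφ.2 E fun U hZ hU hc a ha hord => ?_
    exact (H85.mem_autGroup hU).2 (hE U ⟨hU, hZ, hc⟩
      ((H85.mem_autGroup hU).1 (goodL_liftSys d U hZ hU hc a ha hord)))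
  · intro P hP hPH
    have hPS := hP.1.trans (pre_le θ T')
    have hZP : Z ≤ P := fun z hz => H85.centric_self hP (H85.mem_centralizerIn.2
      ⟨z_le_pre d hz, fun x hx => mul_inv_eq_iff_eq_mul.1 (z_conj d (hPS hx) hz)⟩)
    have hnc : ¬ D.IsCentric (imageAlong θ P) := fun h => hPH ⟨hP.1, hZP, h⟩
    obtain ⟨Q', hQ', hne⟩ : ∃ Q', D.IsConj (imageAlong θ P) Q' ∧
        ¬ centralizerIn T' Q' ≤ Q' := by
      by_contra h
      push Not at h
      exact hnc ⟨image_le_base hP.1, h⟩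
    obtain ⟨Q, hQ, hZQ, hQT, rfl⟩ := exists_conj_lift d hP.1 hZP hQ'
    refine ⟨Q, hQ, fun hle => ?_⟩
    have hQS := hQT.trans (pre_le θ T')
    have : Finite Q := H85.finite_of_le hQS
    obtain ⟨y, hy, hyQ⟩ := SetLike.not_le_iff_exists.1 hne
    obtain ⟨s, rfl⟩ : y ∈ θ.range := d.hθ.2.2.1 ▸ le_target d hy.1
    have hsT : (s : Ω) ∈ pre θ T' := mem_preimageAlong.2 ⟨s.2, hy.1⟩
    have hst : ∀ x : Q, (x : Ω)⁻¹ * ((s : Ω) * x * (s : Ω)⁻¹) ∈ Z := fun x => by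
      have h1 := (H85.mem_centralizerIn.1 hy).2 _ (mem_image' θ hQS x)
      refine (d.hθ.2.1 (⟨x, hQS x.2⟩⁻¹ * (s * ⟨x, hQS x.2⟩ * s⁻¹))).1 ?_
      rw [map_mul, map_mul, map_mul, map_inv, map_inv, ← h1]
      group
    have hsN : (s : Ω) ∈ Subgroup.normalizer (Q : Set Ω) :=
      H85.mem_normalizer_of_conj fun x hx => by
        have h2 := Q.mul_mem hx (hZQ (hst ⟨x, hx⟩))
        rwa [mul_inv_cancel_left] at h2
    set A := (liftSys d).autGroup Q with hAdef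
    let K : Subgroup A := (trivMod Z Q).subgroupOf A
    have hAF : ∀ a : A, (a : MulAut Q) ∈ F.autGroup Q := fun a =>
      (H85.mem_autGroup hQS).2 (liftSys_sub d _ ((H85.mem_autGroup hQT).1 a.2))
    have hKn : K.Normal := ⟨fun k hk a x => by
      have h1 := (hk : (k : MulAut Q) ∈ trivMod Z Q) ((a : MulAut Q)⁻¹ x)
      have h2 : (k : MulAut Q) ((a : MulAut Q)⁻¹ x) = (a : MulAut Q)⁻¹ x *
          (((a : MulAut Q)⁻¹ x)⁻¹ * (k : MulAut Q) ((a : MulAut Q)⁻¹ x)) := by group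
      show (x : Ω)⁻¹ * (((a : MulAut Q) ((k : MulAut Q) ((a : MulAut Q)⁻¹ x)) : Q) : Ω) ∈ Z
      rw [h2, map_mul, MulAut.apply_inv_self, fix_aut d hQS (hAF a) _ h1, Subgroup.coe_mul,
        inv_mul_cancel_left]
      exact h1⟩
    have hKp : IsPGroup p K := fun k => by
      obtain ⟨j, hj⟩ := triv_pow d hQS (hAF k) k.2
      exact ⟨j, Subtype.ext (Subtype.ext hj)⟩
    have hc : H85.conjAut (pre θ T') Q ⟨s, hsT, hsN⟩ ∈ autInducedBy (pre θ T') Q :=
      H85.mem_autInducedBy.2 ⟨s, hsT, fun _ => rfl⟩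
    have hcA := H85.autInducedBy_le_autGroup (liftSys d) hQT hc
    have hcore : (⟨_, hcA⟩ : A) ∈ Cfsg.pCore p A :=
      le_sSup (show K ∈ {N : Subgroup A | N.Normal ∧ IsPGroup p N} from ⟨hKn, hKp⟩) hst
    obtain ⟨u, hu⟩ := hle ⟨hc, ⟨_, hcA⟩, hcore, rfl⟩
    have hcQ : centralizerIn (pre θ T') Q ≤ Q := hP.2 Q hQ
    have h4 : (u : Ω)⁻¹ * (s : Ω) ∈ Q := hcQ (H85.mem_centralizerIn.2
      ⟨mul_mem (inv_mem (hQT u.2)) hsT, fun x hx => by
        have h5 : (u : Ω) * x * (u : Ω)⁻¹ = (s : Ω) * x * (s : Ω)⁻¹ :=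
          congrArg Subtype.val (DFunLike.congr_fun hu (⟨x, hx⟩ : Q))
        calc x * ((u : Ω)⁻¹ * s) = (u : Ω)⁻¹ * ((u : Ω) * x * (u : Ω)⁻¹) * s := by group
          _ = (u : Ω)⁻¹ * ((s : Ω) * x * (s : Ω)⁻¹) * s := by rw [h5]
          _ = (u : Ω)⁻¹ * s * x := by group⟩)
    have h6 := Q.mul_mem u.2 h4
    rw [mul_inv_cancel_left] at h6
    exact hyQ (mem_image h6)

theorem normAut_naive (d : Data p F Z θ F' D) {α : MulAut (pre θ T')}
    (hα : α ∈ F.autGroup (pre θ T')) : NormAut (naive d) α :=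
  normAut_of_strongInv (strongInv_naive d) (pre_le θ T') hα

theorem normAut_liftSys (d : Data p F Z θ F' D) {α : MulAut (pre θ T')}
    (hα : α ∈ F.autGroup (pre θ T')) : NormAut (liftSys d) α := by
  have := H85.finite_of_le (pre_le θ T')
  refine normAut_residual (normAut_naive d hα) fun E hE U hZ hU hc a ha hord => ?_
  have hαH := (H85.mem_autGroup (pre_le θ T')).1 hα
  let e := H85.resIso (dmap α) (F.injective_of_mem hαH) hU
  have he : H85.IsFIso F e := H85.isFIso_resIso hαH hU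
  have hV : H85.img (dmap α) U ≤ pre θ T' := fun y hy => by
    obtain ⟨x, -, rfl⟩ := H85.mem_img.1 hy
    exact SetLike.coe_mem _
  have ha' := naive_congr d hU he ha
  have hord' : (orderOf (MulAut.congr e a)).Coprime p := by
    rwa [MulEquiv.orderOf_eq (MulAut.congr e) a]
  refine (H85.mem_autGroup hU).2 ⟨(H85.mem_autGroup hU).1 ha, _, (H85.mem_autGroup hV).1
    (hE _ (z_le_iso d he hZ) hV (centric_iso d he hc) _ ha' hord'), fun x hx => ?_⟩
  show ((e (a (e.symm ⟨_, hx⟩)) : H85.img (dmap α) U) : Ω) = _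
  rw [show e.symm ⟨_, hx⟩ = x from (MulEquiv.symm_apply_eq _).2 (Subtype.ext rfl)]
  rfl

set_option maxHeartbeats 1000000 in
theorem frattini_liftSys (d : Data p F Z θ F' D) {P : Subgroup Ω} (hP : P ≤ pre θ T')
    {φ : P →* Ω} (hφ : φ ∈ F.Hom P) :
    ∃ α ∈ F.autGroup (pre θ T'), Lev (liftSys d) α P φ := by
  have := finite_target d
  have := finite_base d
  have := H85.finite_of_le (pre_le θ T')
  have hclosed := pre_closed d
  have hA := fun (α : MulAut (pre θ T')) (hα : α ∈ F.autGroup (pre θ T')) => normAut_liftSys d hα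
  refine induction_within d.hS d.hF hclosed
    (fun P φ => ∃ α ∈ F.autGroup (pre θ T'), Lev (liftSys d) α P φ) ?_ ?_ ?_ ?_ P hP φ hφ
  · rintro P Q φ h - - ⟨α, hα, hl⟩
    exact ⟨α, hα, hl.res h fun _ => rfl⟩
  · rintro P Q R e e' - - - - - ⟨α, hα, hl⟩ ⟨α', hα', hl'⟩
    exact ⟨α' * α, mul_mem hα' hα, hl.comp hl' (hA _ (inv_mem hα)) (fun x => (e x).2) fun _ => rfl⟩
  · rintro P Q e - - - ⟨α, hα, hl⟩
    exact ⟨α⁻¹, inv_mem hα, hl.inv (hA _ hα) fun y => ⟨e.symm y, by simp, rfl⟩⟩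
  intro U hUT hn IH α hα
  have hUS := hn.1
  have hαF : H85.IsFIso F α := (H85.mem_autGroup hUS).1 hα
  have : Finite U := H85.finite_of_le hUS
  by_cases hZU : Z ≤ U
  swap
  · obtain ⟨ψ, hψ, hψU, -⟩ := d.hZ.2 U _ hαF
    have hUZ : U ⊔ Z ≤ pre θ T' := sup_le hUT (z_le_pre d)
    have : Finite ↥(U ⊔ Z) := H85.finite_of_le (hUZ.trans (pre_le θ T'))
    have hbig : Nat.card U < Nat.card ↥(U ⊔ Z) := by
      refine lt_of_le_of_ne (Subgroup.card_le_of_le le_sup_left) fun h => hZU ?_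
      exact le_sup_right.trans
        (Subgroup.eq_of_le_of_card_ge (le_sup_left : U ≤ U ⊔ Z) h.ge).symm.le
    obtain ⟨γ, hγ, hl⟩ := IH _ hUZ hbig ψ hψ
    exact ⟨γ, hγ, hl.res le_sup_left fun x => (hψU x).symm⟩
  rcases eq_or_lt_of_le hUT with rfl | hlt
  · exact ⟨α, hα, lev_aut α le_rfl⟩
  let K := (naive d).autGroup U
  have hKF : K ≤ F.autGroup U := fun k hk => (H85.mem_autGroup hUS).2
    (naive_sub d _ ((H85.mem_autGroup hUT).1 hk))
  have hKn : ∀ a ∈ F.autGroup U, ∀ k ∈ K, a * k * a⁻¹ ∈ K := fun a ha k hk => by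
    rw [← H85.congr_eq_conj]
    exact naive_congr d hUT ((H85.mem_autGroup hUS).1 ha) hk
  have hNS : normalizerIn (pre θ T') U ≤ normalizerIn S U := inf_le_inf_right _ (pre_le θ T')
  obtain ⟨k, hk, β, hβ, hkβ, ψ, hψ, hψe⟩ :=
    frattini_step d.hS d.hF hn hKF hKn hα (normalizerIn (pre θ T') U) hNS
      fun g hg => H85.autInducedBy_le_autGroup (naive d) hUT
        (H85.mem_autInducedBy.2 ⟨g, hg.1, fun _ => rfl⟩)
  have hUM : U ⊔ normalizerIn (pre θ T') U ≤ pre θ T' := sup_le hUT inf_le_left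
  have : Finite ↥(U ⊔ normalizerIn (pre θ T') U) :=
    H85.finite_of_le (hUM.trans (pre_le θ T'))
  have hbig : Nat.card U < Nat.card ↥(U ⊔ normalizerIn (pre θ T') U) :=
    lt_of_lt_of_le (card_lt_card_normalizerIn (d.hS.to_le (pre_le θ T')) le_rfl hlt)
      (Subgroup.card_le_of_le le_sup_right)
  obtain ⟨γ, hγ, hlγ⟩ := IH _ hUM hbig ψ hψ
  have hlβ : Lev (liftSys d) γ U (U.subtype.comp β.toMonoidHom) :=
    hlγ.res le_sup_left fun x => (hψe x).symm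
  obtain ⟨ℓ, hℓ, hle⟩ := exists_liftL d
    ((H85.mem_autGroup (image_le_base hUT)).1 (red_mem d hUT ⟨k, hk⟩))
  have hp : U ≤ preimageAlong θ (imageAlong θ U) := (preimage_image_eq d hUS hZU).ge
  have hℓU := H85.restrict hℓ hp
  have hℓS : ∀ x, ℓ x ∈ S := fun x => pre_le θ T' (((liftSys d).le_of_mem hℓ).2 x)
  have hv : ∀ x : U, θ ⟨ℓ (Subgroup.inclusion hp x), hℓS _⟩ = θ ⟨k x, hUS (k x).2⟩ := fun x =>
    (hle (Subgroup.inclusion hp x) (hUS x.2) _ (mem_image' θ hUS x)).trans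
      (red_apply d hUT ⟨k, hk⟩ x)
  have hvk : ∀ x : U, (ℓ (Subgroup.inclusion hp x))⁻¹ * (k x : Ω) ∈ Z := fun x =>
    (d.hθ.2.1 (⟨_, hℓS _⟩⁻¹ * ⟨k x, hUS (k x).2⟩)).1 (by rw [map_mul, map_inv, hv, inv_mul_cancel])
  have hr : (ℓ.comp (Subgroup.inclusion hp)).range = U := range_eq_self_of_le _ hℓU (by
    rintro _ ⟨x, rfl⟩
    have h1 := U.mul_mem (k x).2 (U.inv_mem (hZU (hvk x)))
    rw [mul_inv_rev, inv_inv, mul_inv_cancel_left] at h1
    exact h1)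
  set l : MulAut U := autOfHom _ ((liftSys d).injective_of_mem hℓU) hr with hldef
  have hlU : H85.IsFIso (liftSys d) l := hℓU
  have hlF : l ∈ F.autGroup U := (H85.mem_autGroup hUS).2 (liftSys_sub d _ hlU)
  have hk₀ : k * l⁻¹ ∈ trivMod Z U := fun x => by
    have h1 := hvk (l⁻¹ x)
    rw [show ℓ (Subgroup.inclusion hp (l⁻¹ x)) = (l (l⁻¹ x) : Ω) from rfl,
      MulAut.apply_inv_self] at h1
    exact h1
  obtain ⟨⟨h, hh⟩, hhe⟩ := exists_induced_triv d hn (mul_mem (hKF hk) (inv_mem hlF)) hk₀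
  have hhT : h ∈ Subgroup.normalizer ((pre θ T') : Set Ω) :=
    le_normalizer_of_stronglyClosed hclosed hh.1
  let ε : MulAut (pre θ T') := H85.conjAut S (pre θ T') ⟨h, hh.1, hhT⟩
  have hε : ε ∈ F.autGroup (pre θ T') := H85.autInducedBy_le_autGroup F (pre_le θ T')
    (H85.mem_autInducedBy.2 ⟨h, hh.1, fun _ => rfl⟩)
  have hlk : Lev (liftSys d) ε U (U.subtype.comp k.toMonoidHom) := by
    refine ⟨_, hlU, fun x hx => ?_⟩
    show (k x : Ω) = h * (l x : Ω) * h⁻¹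
    have h1 := congrArg (fun m : MulAut U => ((m (l x) : U) : Ω)) hhe
    simp only [MulAut.mul_apply, MulAut.inv_apply_self] at h1
    exact h1.symm
  refine ⟨ε * γ, mul_mem hε hγ, hlβ.comp hlk (hA _ (inv_mem hγ)) (fun x => (β x).2) fun x => ?_⟩
  rw [hkβ]
  rfl

theorem isWeaklyNormalIn_liftSys (d : Data p F Z θ F' D) :
    (liftSys d).IsWeaklyNormalIn F p := by
  refine ⟨isSaturated_liftSys d, d.hF, liftSys_sub d, pre_closed d, ?_, ?_⟩
  · intro P hPT φ hφ α hα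
    obtain ⟨χ, hχ, he⟩ := normAut_liftSys d hα P φ hφ
    exact ⟨χ, hχ, fun x _ hαx => he x hαx⟩
  · intro P hP φ hφ
    obtain ⟨α, hα, φ₀, h₀, he⟩ := frattini_liftSys d hP hφ
    exact ⟨α, hα, φ₀, h₀, he⟩

end H86.CLift

namespace H86

variable {Ω : Type*} [Group Ω] {Ω' : Type*} [Group Ω'] {S : Subgroup Ω} {S' T' : Subgroup Ω'}

/-- A normal subsystem of the factor system modulo a central subgroup lifts to a weakly normal
subsystem over the preimage. -/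
theorem exists_centralLift [Finite S] {p : ℕ} [Fact p.Prime] (hS : IsPGroup p S)
    {F : FusionSystem S} (hF : F.IsSaturated p) {Z : Subgroup Ω} (hZ : F.IsCentral Z)
    {θ : S →* Ω'} {F' : FusionSystem S'} (hθ : F.IsFactorSystem Z θ F')
    {D : FusionSystem T'} (hD : D.IsNormalIn F' p) :
    ∃ L : FusionSystem (preimageAlong θ T'), L.IsWeaklyNormalIn F p ∧
      (∀ (P : Subgroup Ω) (φ : P →* Ω), φ ∈ L.Hom P →
        ∃ φ' ∈ D.Hom (imageAlong θ P), InducedAlong θ φ φ') ∧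
      ∀ (P' : Subgroup Ω') (φ' : P' →* Ω'), φ' ∈ D.Hom P' →
        ∃ φ ∈ L.Hom (preimageAlong θ P'), InducedAlong θ φ φ' := by
  let d : CLift.Data p F Z θ F' D := ⟨hS, hF, hZ, hθ, hD⟩
  refine ⟨CLift.liftSys d, CLift.isWeaklyNormalIn_liftSys d,
    fun P φ hφ => (CLift.liftSys_le_naive d P hφ).2.2, fun P' φ' hφ' => ?_⟩
  obtain ⟨ℓ, hℓ, hle⟩ := CLift.exists_liftL d hφ'
  have hℓF := CLift.liftSys_sub d _ hℓ
  refine ⟨ℓ, hℓ, H85.source_le hℓF, H85.map_mem hℓF,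
    fun x => (H86.mem_preimageAlong.1 x.2).2, fun x => ?_⟩
  exact (hle x (H85.source_le hℓF x.2) (H85.map_mem hℓF x) (H86.mem_preimageAlong.1 x.2).2).symm

end H86
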