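import Cfsg.Agent.H86.ExtAll
import Cfsg.Agent.H86.Image
import Cfsg.Agent.H86.Quotient

/-! Setting of the central lift: `F` saturated with central `Z`, `D` normal in `F/Z` over `T'`.
The naive preimage system over the preimage of `T'`. -/

set_option autoImplicit false
set_option linter.unusedSectionVars false

open Cfsg Cfsg.FusionSystem

namespace H86.CLift

variable {Ω : Type*} [Group Ω] {Ω' : Type*} [Group Ω'] {S : Subgroup Ω} {S' T' : Subgroup Ω'}

theorem mem_image {θ : S →* Ω'} {P : Subgroup Ω} {x : S} (hx : (x : Ω) ∈ P) :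
    θ x ∈ imageAlong θ P := mem_imageAlong.2 ⟨x, hx, rfl⟩

theorem mem_image' (θ : S →* Ω') {P : Subgroup Ω} (hP : P ≤ S) (x : P) :
    θ ⟨x, hP x.2⟩ ∈ imageAlong θ P := mem_imageAlong.2 ⟨⟨x, hP x.2⟩, x.2, rfl⟩

theorem surj_image {θ : S →* Ω'} {P : Subgroup Ω} (hP : P ≤ S) (y : imageAlong θ P) :
    ∃ x : P, (θ ⟨x, hP x.2⟩ : Ω') = y := by
  obtain ⟨s, hs, hy⟩ := mem_imageAlong.1 y.2
  exact ⟨⟨s, hs⟩, hy⟩

theorem imageAlong_mono {θ : S →* Ω'} {P Q : Subgroup Ω} (h : P ≤ Q) :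
    imageAlong θ P ≤ imageAlong θ Q := by
  intro y hy
  obtain ⟨s, hs, rfl⟩ := mem_imageAlong.1 hy
  exact mem_image (h hs)

theorem range_eq_of_induced {θ : S →* Ω'} {P : Subgroup Ω} {φ : P →* Ω}
    {φ' : imageAlong θ P →* Ω'} (h : InducedAlong θ φ φ') : φ'.range = imageAlong θ φ.range := by
  obtain ⟨hP, hφ, hP', he⟩ := h
  ext y
  constructor
  · rintro ⟨y', rfl⟩
    obtain ⟨x, hx⟩ := surj_image hP y'
    rw [show y' = ⟨θ ⟨x, hP x.2⟩, hP' x⟩ from Subtype.ext hx.symm, he]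
    exact mem_image ⟨x, rfl⟩
  · intro hy
    obtain ⟨s, ⟨x, hx⟩, rfl⟩ := mem_imageAlong.1 hy
    exact ⟨_, (he x).trans (congrArg θ (Subtype.ext hx))⟩

/-- The hypotheses of the central lift. -/
structure Data (p : ℕ) (F : FusionSystem S) (Z : Subgroup Ω) (θ : S →* Ω')
    (F' : FusionSystem S') (D : FusionSystem T') : Prop where
  hS : IsPGroup p S
  hF : F.IsSaturated p
  hZ : F.IsCentral Z
  hθ : F.IsFactorSystem Z θ F'
  hD : D.IsNormalIn F' p

variable [Finite S] {p : ℕ} {F : FusionSystem S} {Z : Subgroup Ω} {θ : S →* Ω'}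
  {F' : FusionSystem S'} {D : FusionSystem T'}

/-- The preimage of `T'`. -/
abbrev pre (θ : S →* Ω') (T' : Subgroup Ω') : Subgroup Ω := preimageAlong θ T'

theorem pre_le (θ : S →* Ω') (T' : Subgroup Ω') : pre θ T' ≤ S := Subgroup.map_subtype_le _

theorem image_le (d : Data p F Z θ F' D) (P : Subgroup Ω) : imageAlong θ P ≤ S' := by
  intro y hy
  obtain ⟨s, -, rfl⟩ := mem_imageAlong.1 hy
  rw [← d.hθ.2.2.1]
  exact ⟨s, rfl⟩

theorem finite_target (d : Data p F Z θ F' D) : Finite S' :=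
  d.hθ.2.2.1 ▸ Finite.of_surjective _ θ.rangeRestrict_surjective

theorem isPGroup_target (d : Data p F Z θ F' D) : IsPGroup p S' :=
  d.hθ.2.2.1 ▸ d.hS.of_surjective _ θ.rangeRestrict_surjective

theorem satT (d : Data p F Z θ F' D) : F'.IsSaturated p := d.hD.1.2.1

theorem satD (d : Data p F Z θ F' D) : D.IsSaturated p := d.hD.1.1

theorem le_target (d : Data p F Z θ F' D) : T' ≤ S' := d.hD.1.2.2.2.1.1

theorem finite_base (d : Data p F Z θ F' D) : Finite T' :=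
  haveI := finite_target d
  H85.finite_of_le (le_target d)

theorem fix (d : Data p F Z θ F' D) {Q : Subgroup Ω} {φ : Q →* Ω} (hφ : φ ∈ F.Hom Q) {x : Q}
    (hx : (x : Ω) ∈ Z) : φ x = x := by
  obtain ⟨ψ, -, hψQ, hψZ⟩ := d.hZ.2 Q φ hφ
  rw [← hψQ x]
  exact (congrArg ψ (Subtype.ext rfl)).trans (hψZ ⟨x, hx⟩)

theorem z_closed (d : Data p F Z θ F' D) : F.StronglyClosed Z :=
  ⟨d.hZ.1, fun _ hP _ hφ x => (fix d hφ (hP x.2)).symm ▸ hP x.2⟩

theorem z_conj (d : Data p F Z θ F' D) {g z : Ω} (hg : g ∈ S) (hz : z ∈ Z) :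
    g * z * g⁻¹ = z :=
  fix d (F.conj_mem d.hZ.1 hg) (x := (⟨z, hz⟩ : Z)) hz

theorem z_le_pre (d : Data p F Z θ F' D) : Z ≤ pre θ T' := fun z hz =>
  mem_preimageAlong.2 ⟨d.hZ.1 hz, by rw [(d.hθ.2.1 _).2 hz]; exact one_mem _⟩

theorem preimage_image (d : Data p F Z θ F' D) {P : Subgroup Ω} (hP : P ≤ S) :
    preimageAlong θ (imageAlong θ P) = P ⊔ Z :=
  preimageAlong_imageAlong (z_closed d) d.hθ.2.1 hP

theorem image_le_base {P : Subgroup Ω} (h : P ≤ pre θ T') : imageAlong θ P ≤ T' := by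
  intro y hy
  obtain ⟨s, hs, rfl⟩ := mem_imageAlong.1 hy
  exact (mem_preimageAlong.1 (h hs)).2

theorem le_pre_of_image {P : Subgroup Ω} (hP : P ≤ S) (h : imageAlong θ P ≤ T') : P ≤ pre θ T' :=
  fun x hx => mem_preimageAlong.2 ⟨hP hx, h (mem_image' θ hP ⟨x, hx⟩)⟩

/-- Every map of `F` induces a map of the factor system. -/
theorem exists_ind (d : Data p F Z θ F' D) {P : Subgroup Ω} {φ : P →* Ω} (hφ : φ ∈ F.Hom P) :
    ∃ φ' ∈ F'.Hom (imageAlong θ P), InducedAlong θ φ φ' := by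
  have hP := H85.source_le hφ
  obtain ⟨ψ, hψ, hψP, -⟩ := d.hZ.2 P φ hφ
  obtain ⟨ψ₁, hψ₁, he₁⟩ : ∃ ψ₁ ∈ F.Hom (preimageAlong θ (imageAlong θ P)),
      ∀ (x : P) (hx : (x : Ω) ∈ preimageAlong θ (imageAlong θ P)), ψ₁ ⟨x, hx⟩ = φ x := by
    refine ⟨_, H85.restrict hψ (preimage_image d hP).le, fun x hx => ?_⟩
    exact (congrArg ψ (Subtype.ext rfl)).trans (hψP x)
  obtain ⟨φ', hφ'⟩ := exists_induced (z_closed d) d.hθ.2.1 hψ₁ (P' := imageAlong θ P)
    (fun x => (mem_preimageAlong.1 x.2).2) fun y => by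
      obtain ⟨x, hx⟩ := surj_image hP y
      exact ⟨⟨x, (preimage_image d hP).ge (Subgroup.mem_sup_left x.2)⟩, hx⟩
  refine ⟨φ', (d.hθ.2.2.2 _ φ').2 ⟨image_le d P, ψ₁, hψ₁, hφ'⟩, hP, H85.map_mem hφ,
    fun x => mem_image' θ hP x, fun x => ?_⟩
  obtain ⟨hP₁, hφ₁, _, he⟩ := hφ'
  have hx : (x : Ω) ∈ preimageAlong θ (imageAlong θ P) :=
    (preimage_image d hP).ge (Subgroup.mem_sup_left x.2)
  exact (he ⟨x, hx⟩).trans (congrArg θ (Subtype.ext (he₁ x hx)))

/-- Every map of the factor system is induced by a map of `F` on the preimage. -/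
theorem exists_lift (d : Data p F Z θ F' D) {P' : Subgroup Ω'} {φ' : P' →* Ω'}
    (h : φ' ∈ F'.Hom P') : ∃ φ ∈ F.Hom (preimageAlong θ P'), InducedAlong θ φ φ' :=
  ((d.hθ.2.2.2 P' φ').1 h).2

theorem pre_closed (d : Data p F Z θ F' D) : F.StronglyClosed (pre θ T') := by
  refine ⟨pre_le θ T', fun P hP φ hφ x => ?_⟩
  obtain ⟨φ', hφ', hPS, hφS, hP', he⟩ := exists_ind d hφ
  refine mem_preimageAlong.2 ⟨hφS x, ?_⟩
  rw [← he x]
  exact d.hD.1.2.2.2.1.2 _ (image_le_base hP) _ hφ' _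

/-- The map induces a map of `D`. -/
def InD (θ : S →* Ω') (D : FusionSystem T') {P : Subgroup Ω} (φ : P →* Ω) : Prop :=
  ∃ φ' ∈ D.Hom (imageAlong θ P), InducedAlong θ φ φ'

/-- The naive preimage of `D`. -/
def naive (d : Data p F Z θ F' D) : FusionSystem (pre θ T') where
  Hom P := {φ | φ ∈ F.Hom P ∧ P ≤ pre θ T' ∧ InD θ D φ}
  le_of_mem h := ⟨h.2.1, fun x => (pre_closed d).2 _ h.2.1 _ h.1 x⟩
  injective_of_mem h := F.injective_of_mem h.1
  conj_mem := by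
    intro P g hP hg
    obtain ⟨hgS, hg'⟩ := mem_preimageAlong.1 hg
    have hPS := hP.trans (pre_le θ T')
    refine ⟨F.conj_mem hPS hgS, hP, Cfsg.conjHom _ (θ ⟨g, hgS⟩),
      D.conj_mem (image_le_base hP) hg', hPS, fun x => ?_,
      fun x => mem_image' θ hPS x, fun x => ?_⟩
    · exact mul_mem (mul_mem hgS (hPS x.2)) (inv_mem hgS)
    · rw [H85.conjHom_apply, ← map_inv, ← map_mul, ← map_mul]
      rfl
  comp_mem := by
    rintro P Q φ ψ ⟨hφ, hP, φ', hφ', hPS, hφS, hP', he⟩ ⟨hψ, hQ, ψ', hψ', hQS, hψS, hQ', he'⟩ h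
    have hm : ∀ y, φ' y ∈ imageAlong θ Q := by
      intro y
      obtain ⟨x, hx⟩ := surj_image hPS y
      rw [show y = ⟨θ ⟨x, hPS x.2⟩, hP' x⟩ from Subtype.ext hx.symm, he]
      exact mem_image (h x)
    refine ⟨F.comp_mem hφ hψ h, hP, _, D.comp_mem hφ' hψ' hm, hPS, fun x => hψS _, hP',
      fun x => ?_⟩
    refine Eq.trans ?_ (he' ⟨φ x, h x⟩)
    exact congrArg ψ' (Subtype.ext (he x))
  inv_mem := by
    rintro P φ ⟨hφ, hP, φ', hφ', hind⟩
    obtain ⟨ψ, hψ, hψe⟩ := F.inv_mem hφ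
    obtain ⟨ψ', hψ', hψe'⟩ := D.inv_mem hφ'
    have hr := range_eq_of_induced hind
    obtain ⟨hPS, hφS, hP', he⟩ := hind
    have hrS : φ.range ≤ S := H85.range_le hφ
    refine ⟨ψ, ⟨hψ, ?_, _, H85.restrict hψ' hr.ge, hrS, H85.map_mem hψ,
      fun y => mem_image' θ hrS y, ?_⟩, hψe⟩
    · rintro _ ⟨x, rfl⟩
      exact (pre_closed d).2 _ hP _ hφ x
    · rintro ⟨_, x, rfl⟩
      refine Eq.trans ?_ ((hψe' ⟨_, hP' x⟩).trans (congrArg θ (Subtype.ext (hψe x).symm)))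
      exact congrArg ψ' (Subtype.ext (he x).symm)

theorem naive_sub (d : Data p F Z θ F' D) : (naive d).IsSubsystemOf F := fun _ _ h => h.1

/-- An automorphism in the naive preimage induces an automorphism in `D`. -/
theorem exists_red (d : Data p F Z θ F' D) {U : Subgroup Ω} (hU : U ≤ pre θ T')
    {a : MulAut U} (ha : a ∈ (naive d).autGroup U) :
    ∃ a' ∈ D.autGroup (imageAlong θ U), ∀ x : U,
      ((a' ⟨θ ⟨x, pre_le θ T' (hU x.2)⟩, mem_image' θ (hU.trans (pre_le θ T')) x⟩ :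
        imageAlong θ U) : Ω') = θ ⟨a x, pre_le θ T' (hU (a x).2)⟩ := by
  have := H85.finite_of_le (pre_le θ T')
  have := finite_base d
  obtain ⟨-, -, a', ha', hind⟩ := (H85.mem_autGroup hU).1 ha
  have hr : a'.range = imageAlong θ U :=
    (range_eq_of_induced hind).trans (congrArg (imageAlong θ) (H85.IsFIso.range_eq a))
  obtain ⟨hUS, haS, hU', he⟩ := hind
  exact ⟨autOfHom a' (D.injective_of_mem ha') hr, autOfHom_mem D ha' hr, fun x => he x⟩

/-- The map `Aut(U) → Aut(U/Z)` on the naive preimage. -/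
noncomputable def red (d : Data p F Z θ F' D) {U : Subgroup Ω} (hU : U ≤ pre θ T') :
    (naive d).autGroup U →* MulAut (imageAlong θ U) :=
  MonoidHom.mk' (fun a => Classical.choose (exists_red d hU a.2)) fun a b => by
    refine MulEquiv.ext fun y => Subtype.ext ?_
    obtain ⟨x, hx⟩ := surj_image (θ := θ) (hU.trans (pre_le θ T')) y
    rw [show y = ⟨_, mem_image' θ (hU.trans (pre_le θ T')) x⟩ from Subtype.ext hx.symm]
    rw [(Classical.choose_spec (exists_red d hU (a * b).2)).2 x, MulAut.mul_apply]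
    refine ((Classical.choose_spec (exists_red d hU a.2)).2 ((b : MulAut U) x)).symm.trans ?_
    exact congrArg (fun z => (((Classical.choose (exists_red d hU a.2)) z :
      imageAlong θ U) : Ω')) (Subtype.ext ((Classical.choose_spec (exists_red d hU b.2)).2 x).symm)

theorem red_apply (d : Data p F Z θ F' D) {U : Subgroup Ω} (hU : U ≤ pre θ T')
    (a : (naive d).autGroup U) (x : U) :
    ((red d hU a ⟨θ ⟨x, pre_le θ T' (hU x.2)⟩, mem_image' θ (hU.trans (pre_le θ T')) x⟩ :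
      imageAlong θ U) : Ω') = θ ⟨(a : MulAut U) x, pre_le θ T' (hU ((a : MulAut U) x).2)⟩ :=
  (Classical.choose_spec (exists_red d hU a.2)).2 x

theorem red_mem (d : Data p F Z θ F' D) {U : Subgroup Ω} (hU : U ≤ pre θ T')
    (a : (naive d).autGroup U) : red d hU a ∈ D.autGroup (imageAlong θ U) :=
  (Classical.choose_spec (exists_red d hU a.2)).1

theorem red_ker (d : Data p F Z θ F' D) {U : Subgroup Ω} (hU : U ≤ pre θ T')
    (a : (naive d).autGroup U) :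
    a ∈ (red d hU).ker ↔ (a : MulAut U) ∈ trivMod Z U := by
  rw [MonoidHom.mem_ker, mem_trivMod]
  constructor
  · intro h x
    have h1 := red_apply d hU a x
    rw [h, MulAut.one_apply] at h1
    refine (d.hθ.2.1 (⟨x, pre_le θ T' (hU x.2)⟩⁻¹ *
      ⟨(a : MulAut U) x, pre_le θ T' (hU ((a : MulAut U) x).2)⟩)).1 ?_
    rw [map_mul, map_inv, ← h1, inv_mul_cancel]
  · intro h
    refine MulEquiv.ext fun y => Subtype.ext ?_
    obtain ⟨x, hx⟩ := surj_image (θ := θ) (hU.trans (pre_le θ T')) y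
    rw [show y = ⟨_, mem_image' θ (hU.trans (pre_le θ T')) x⟩ from Subtype.ext hx.symm,
      red_apply, MulAut.one_apply]
    have h1 := (d.hθ.2.1 (⟨x, pre_le θ T' (hU x.2)⟩⁻¹ *
      ⟨(a : MulAut U) x, pre_le θ T' (hU ((a : MulAut U) x).2)⟩)).2 (h x)
    rw [map_mul, map_inv, inv_mul_eq_one] at h1
    exact h1.symm

end H86.CLift
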