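import Cfsg.Agent.H86.CentralLift.LiftSys
import Cfsg.Agent.H86.PrimeLocal
import Cfsg.Agent.H85.LocalSystems

/-! Maps of the lifted system between overgroups in the normalizer restrict to the kernel `C` of the
defect. -/

set_option autoImplicit false
set_option linter.unusedSectionVars false

open Cfsg Cfsg.FusionSystem

namespace H86.CLift

variable {Ω : Type*} [Group Ω] {Ω' : Type*} [Group Ω'] {S : Subgroup Ω} {S' T' : Subgroup Ω'}
variable [Finite S] {p : ℕ} [Fact p.Prime] {F : FusionSystem S} {Z : Subgroup Ω} {θ : S →* Ω'}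
  {F' : FusionSystem S'} {D : FusionSystem T'}

/-- In the lifted system the automorphisms trivial modulo `Z` are inner. -/
def Uniq (d : Data p F Z θ F' D) (U : Subgroup Ω) : Prop :=
  ∀ k ∈ (liftSys d).autGroup U, k ∈ trivMod Z U → k ∈ Cfsg.Inn U

theorem preimage_image_eq (d : Data p F Z θ F' D) {U : Subgroup Ω} (hU : U ≤ S) (hZ : Z ≤ U) :
    preimageAlong θ (imageAlong θ U) = U := by
  rw [preimage_image d hU, sup_eq_left.2 hZ]

theorem card_lt_image (d : Data p F Z θ F' D) {U V : Subgroup Ω} (hV : V ≤ S) (hZ : Z ≤ U)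
    (hUV : U ≤ V) (hlt : Nat.card U < Nat.card V) :
    Nat.card (imageAlong θ U) < Nat.card (imageAlong θ V) := by
  have := finite_target d
  have : Finite (imageAlong θ V) := H85.finite_of_le (image_le d V)
  refine lt_of_le_of_ne (Subgroup.card_le_of_le (imageAlong_mono hUV)) fun h => hlt.ne ?_
  have h1 := Subgroup.eq_of_le_of_card_ge (imageAlong_mono (θ := θ) hUV) h.ge
  rw [← preimage_image_eq d (hUV.trans hV) hZ, h1, preimage_image_eq d hV (hZ.trans hUV)]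

theorem preimage_normalizer (d : Data p F Z θ F' D) {U : Subgroup Ω} (hU : U ≤ pre θ T')
    (hZ : Z ≤ U) : preimageAlong θ (normalizerIn T' (imageAlong θ U)) =
      normalizerIn (pre θ T') U := by
  have hUS := hU.trans (pre_le θ T')
  have : Finite U := H85.finite_of_le hUS
  have := finite_target d
  have : Finite (imageAlong θ U) := H85.finite_of_le (image_le d U)
  ext g
  constructor
  · intro hg
    obtain ⟨hgS, hg1, hg2⟩ := mem_preimageAlong.1 hg
    refine ⟨mem_preimageAlong.2 ⟨hgS, hg1⟩, H85.mem_normalizer_of_conj fun x hx => ?_⟩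
    refine (preimage_image_eq d hUS hZ).le (mem_preimageAlong.2
      ⟨mul_mem (mul_mem hgS (hUS hx)) (inv_mem hgS), ?_⟩)
    have h := H85.conj_mem_of_mem_normalizer hg2 (mem_image' θ hUS ⟨x, hx⟩)
    rwa [← map_inv, ← map_mul, ← map_mul] at h
  · rintro ⟨hgT, hgN⟩
    obtain ⟨hgS, hg'⟩ := mem_preimageAlong.1 hgT
    refine mem_preimageAlong.2 ⟨hgS, hg', H85.mem_normalizer_of_conj fun y hy => ?_⟩
    obtain ⟨s, hs, rfl⟩ := mem_imageAlong.1 hy
    rw [← map_inv, ← map_mul, ← map_mul]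
    exact mem_image (x := (⟨g, hgS⟩ : S) * s * (⟨g, hgS⟩ : S)⁻¹)
      (H85.conj_mem_of_mem_normalizer hgN hs)

variable {U₀ : Subgroup Ω}

/-- The kernel `C`, as given by `exists_C`. -/
structure IsDefectKernel (d : Data p F Z θ F' D) (U₀ : Subgroup Ω)
    (C : Subgroup ((naive d).autGroup U₀)) : Prop where
  normal : C.Normal
  inner : ∀ k : (naive d).autGroup U₀, (k : MulAut U₀) ∈ trivMod Z U₀ → k ∈ C →
    (k : MulAut U₀) ∈ Cfsg.Inn U₀
  induced : ∀ a : (naive d).autGroup U₀, (a : MulAut U₀) ∈ autInducedBy (pre θ T') U₀ → a ∈ C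
  power : ∀ g : (naive d).autGroup U₀, ∃ j : ℕ, g ^ p ^ j ∈ C

/-- `φ` agrees on `U₀` with an element of `C`. -/
def Agrees (d : Data p F Z θ F' D) (C : Subgroup ((naive d).autGroup U₀)) {P : Subgroup Ω}
    (φ : P →* Ω) : Prop :=
  ∃ c ∈ C, ∀ (u : U₀) (hu : (u : Ω) ∈ P), φ ⟨u, hu⟩ = ((c : MulAut U₀) u : Ω)

/-- Two maps of the lifted system inducing the same map differ by an inner automorphism. -/
theorem agrees_of_same (d : Data p F Z θ F' D) {C : Subgroup ((naive d).autGroup U₀)}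
    (hC : IsDefectKernel d U₀ C) {V : Subgroup Ω} (hU₀ : U₀ ≤ pre θ T') (hUV : U₀ ≤ V)
    (hVN : V ≤ normalizerIn (pre θ T') U₀) (hZ : Z ≤ U₀) (hu : Uniq d V) {x y : V →* Ω}
    (hx : x ∈ (liftSys d).Hom V) (hy : y ∈ (liftSys d).Hom V)
    (hxy : ∀ v : V, (x v)⁻¹ * y v ∈ Z) (h : Agrees d C x) : Agrees d C y := by
  have := H85.finite_of_le (pre_le θ T')
  have hV : V ≤ pre θ T' := hVN.trans inf_le_left
  have hVS := hV.trans (pre_le θ T')
  have : Finite V := H85.finite_of_le hVS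
  obtain ⟨f, hf, hfe⟩ := (liftSys d).inv_mem hx
  have hZV : Z ≤ V := hZ.trans hUV
  have hym : ∀ v, y v ∈ x.range := fun v => by
    refine ⟨v * ⟨_, hZV (hxy v)⟩, ?_⟩
    rw [map_mul, show x ⟨_, hZV (hxy v)⟩ = (x v)⁻¹ * y v from fix d (liftSys_sub d _ hx) (hxy v),
      mul_inv_cancel_left]
  have hk := (liftSys d).comp_mem hy hf hym
  have hkv : ∀ v : V, (f.comp (y.codRestrict _ hym)) v = v * ((x v)⁻¹ * y v) := fun v => by
    refine Eq.trans (congrArg f (Subtype.ext ?_)) (hfe (v * ⟨_, hZV (hxy v)⟩))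
    show y v = x (v * ⟨_, hZV (hxy v)⟩)
    rw [map_mul, show x ⟨_, hZV (hxy v)⟩ = (x v)⁻¹ * y v from fix d (liftSys_sub d _ hx) (hxy v),
      mul_inv_cancel_left]
  have hkr : (f.comp (y.codRestrict _ hym)).range = V := range_eq_self_of_le _ hk (by
    rintro _ ⟨v, rfl⟩
    rw [hkv]
    exact V.mul_mem v.2 (hZV (hxy v)))
  set k : MulAut V := autOfHom _ ((liftSys d).injective_of_mem hk) hkr with hkdef
  have hkt : k ∈ trivMod Z V := fun v => by
    show (v : Ω)⁻¹ * (f.comp (y.codRestrict _ hym)) v ∈ Z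
    rw [hkv, inv_mul_cancel_left]
    exact hxy v
  obtain ⟨w, hw⟩ := hu k (autOfHom_mem _ hk hkr) hkt
  have hyv : ∀ v : V, y v = x (k v) := fun v => by
    have h1 : (k v : V) = v * ⟨_, hZV (hxy v)⟩ := Subtype.ext (hkv v)
    rw [h1, map_mul, show x ⟨_, hZV (hxy v)⟩ = (x v)⁻¹ * y v from fix d (liftSys_sub d _ hx) (hxy v),
      mul_inv_cancel_left]
  obtain ⟨c, hc, hce⟩ := h
  have hwN : (w : Ω) ∈ normalizerIn (pre θ T') U₀ := hVN w.2
  have hcw : H85.conjAut (pre θ T') U₀ ⟨w, hwN⟩ ∈ autInducedBy (pre θ T') U₀ :=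
    H85.mem_autInducedBy.2 ⟨w, hwN.1, fun _ => rfl⟩
  let c₂ : (naive d).autGroup U₀ := ⟨_, H85.autInducedBy_le_autGroup (naive d) hU₀ hcw⟩
  refine ⟨c * c₂, mul_mem hc (hC.induced c₂ hcw), fun u hu' => ?_⟩
  rw [hyv, Subgroup.coe_mul, MulAut.mul_apply, ← hw]
  refine Eq.trans (congrArg x (Subtype.ext ?_))
    (hce ((c₂ : MulAut U₀) u) (hUV ((c₂ : MulAut U₀) u).2))
  rfl

/-- The property used in the induction over the normalizer system of the image of `U₀`. -/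
def LiftRes (d : Data p F Z θ F' D) (C : Subgroup ((naive d).autGroup U₀)) (P' : Subgroup Ω')
    (φ' : P' →* Ω') : Prop :=
  imageAlong θ U₀ ≤ P' → Nat.card (imageAlong θ U₀) < Nat.card P' →
    ∃ ℓ ∈ (liftSys d).Hom (preimageAlong θ P'), Lifts θ φ' ℓ ∧ Agrees d C ℓ

theorem nMap_fix (d : Data p F Z θ F' D) (hT : imageAlong θ U₀ ≤ T') {P : Subgroup Ω'}
    {φ : P →* Ω'} (hφ : φ ∈ (H85.normalizerSystem D (imageAlong θ U₀) hT).Hom P) {z : P}
    (hz : (z : Ω') ∈ imageAlong θ U₀) : φ z ∈ imageAlong θ U₀ := by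
  obtain ⟨-, -, -, ψ, -, hext, himg⟩ := H85.mem_normalizerHom.1 hφ
  rw [← hext z]
  exact himg.le (H85.apply_mem_img (φ := ψ) (x := Subgroup.inclusion le_sup_left z) hz)

theorem nMap_surj (d : Data p F Z θ F' D) (hT : imageAlong θ U₀ ≤ T') {P Q : Subgroup Ω'}
    {e : P ≃* Q} (he : H85.IsFIso (H85.normalizerSystem D (imageAlong θ U₀) hT) e)
    (hP : imageAlong θ U₀ ≤ P) : imageAlong θ U₀ ≤ Q := by
  have := finite_base d
  have : Finite (normalizerIn T' (imageAlong θ U₀)) := H85.finite_of_le (H85.normalizerIn_le _)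
  have himg := img_eq_of_mapsTo he hP fun x hx => nMap_fix d hT he hx
  intro z hz
  obtain ⟨x, -, rfl⟩ := H85.mem_img.1 (himg.ge hz)
  exact (e x).2

set_option maxHeartbeats 1000000 in
theorem liftRes_all (d : Data p F Z θ F' D) {C : Subgroup ((naive d).autGroup U₀)}
    (hC : IsDefectKernel d U₀ C) (hU₀ : U₀ ≤ pre θ T') (hZ : Z ≤ U₀)
    (hc : D.IsCentric (imageAlong θ U₀)) (hn : D.IsFullyNormalized (imageAlong θ U₀))
    (hu : ∀ V : Subgroup Ω, Z ≤ V → V ≤ pre θ T' → D.IsCentric (imageAlong θ V) →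
      Nat.card U₀ < Nat.card V → Uniq d V)
    {P' : Subgroup Ω'} {φ' : P' →* Ω'}
    (hφ' : φ' ∈ (H85.normalizerSystem D (imageAlong θ U₀) hn.1).Hom P') :
    LiftRes d C P' φ' := by
  classical
  have := finite_target d
  have := finite_base d
  have := H85.finite_of_le (pre_le θ T')
  have hTp : IsPGroup p T' := (isPGroup_target d).to_le (le_target d)
  have hN'T : (normalizerIn T' (imageAlong θ U₀)) ≤ T' := H85.normalizerIn_le _
  have : Finite (normalizerIn T' (imageAlong θ U₀)) := H85.finite_of_le hN'T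
  have hN'p : IsPGroup p (normalizerIn T' (imageAlong θ U₀)) := hTp.to_le hN'T
  have hNsat : (H85.normalizerSystem D (imageAlong θ U₀) hn.1).IsSaturated p := H85.isSaturated_normalizerSystem hTp (satD d) hn (H85.normalizerSystem D (imageAlong θ U₀) hn.1)
    (H85.normalizerSystem_spec D _ hn.1)
  have hU₀S := hU₀.trans (pre_le θ T')
  -- facts about the preimage of a subgroup above the image of `U₀`
  have above : ∀ {P : Subgroup Ω'}, P ≤ (normalizerIn T' (imageAlong θ U₀)) → imageAlong θ U₀ ≤ P →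
      Nat.card (imageAlong θ U₀) < Nat.card P →
      U₀ ≤ preimageAlong θ P ∧ preimageAlong θ P ≤ normalizerIn (pre θ T') U₀ ∧
        Uniq d (preimageAlong θ P) := by
    intro P hPN hP hcard
    have h1 : U₀ ≤ preimageAlong θ P := fun x hx =>
      mem_preimageAlong.2 ⟨hU₀S hx, hP (mem_image' θ hU₀S ⟨x, hx⟩)⟩
    have h2 : preimageAlong θ P ≤ normalizerIn (pre θ T') U₀ :=
      (preimageAlong_mono hPN).trans (preimage_normalizer d hU₀ hZ).le
    refine ⟨h1, h2, hu _ (z_le_preimage d P) (h2.trans inf_le_left) ?_ ?_⟩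
    · rw [image_preimage d (hPN.trans (hN'T.trans (le_target d)))]
      exact H85.centric_mono hc hP (hPN.trans hN'T)
    · have : Finite (preimageAlong θ P) :=
        H85.finite_of_le (h2.trans (inf_le_left.trans (pre_le θ T')))
      refine lt_of_le_of_ne (Subgroup.card_le_of_le h1) fun h => hcard.ne ?_
      rw [Subgroup.eq_of_le_of_card_ge h1 h.ge,
        image_preimage d (hPN.trans (hN'T.trans (le_target d)))]
  refine induction_within hN'p hNsat (stronglyClosed_self (H85.normalizerSystem D (imageAlong θ U₀) hn.1)) (LiftRes d C) ?_ ?_ ?_ ?_ P'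
    (H85.source_le hφ') φ' hφ'
  · intro P Q φ hPQ hQ hφ hres hP hcard
    have : Finite Q := H85.finite_of_le hQ
    obtain ⟨ℓ, hℓ, he, c, hc', hce⟩ :=
      hres (hP.trans hPQ) (hcard.trans_le (Subgroup.card_le_of_le hPQ))
    exact ⟨_, H85.restrict hℓ (preimageAlong_mono hPQ), fun x h1 h2 h3 =>
      (he (Subgroup.inclusion (preimageAlong_mono hPQ) x) h1 h2 (hPQ h3)).trans
        (congrArg φ (Subtype.ext rfl)), c, hc',
      fun u hu => hce u (preimageAlong_mono hPQ hu)⟩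
  · intro P Q R e e' hP hQ hR he he' hres hres' hUP hcard
    have hUQ := nMap_surj d hn.1 he hUP
    obtain ⟨ℓ, hℓ, hle, c, hc₁, hce⟩ := hres hUP hcard
    obtain ⟨ℓ', hℓ', hle', c', hc₂, hce'⟩ :=
      hres' hUQ (hcard.trans_le (Nat.card_congr e.toEquiv).le)
    have hval : ∀ x : preimageAlong θ P, ∃ h1 : (x : Ω) ∈ S, ∃ h3 : θ ⟨x, h1⟩ ∈ P,
        θ ⟨ℓ x, pre_le θ T' (((liftSys d).le_of_mem hℓ).2 x)⟩ = (e ⟨_, h3⟩ : Ω') := fun x => by
      obtain ⟨h1, h3⟩ := mem_preimageAlong.1 x.2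
      exact ⟨h1, h3, hle x h1 _ h3⟩
    have hm : ∀ x, ℓ x ∈ preimageAlong θ Q := fun x => by
      obtain ⟨h1, h3, hv⟩ := hval x
      exact mem_preimageAlong.2 ⟨_, hv ▸ (e _).2⟩
    refine ⟨_, (liftSys d).comp_mem hℓ hℓ' hm, fun x h1 h2 h3 => ?_, c' * c, mul_mem hc₂ hc₁,
      fun u hu => ?_⟩
    · obtain ⟨_, h3', hv⟩ := hval x
      refine (hle' ⟨ℓ x, hm x⟩ (pre_le θ T' (((liftSys d).le_of_mem hℓ).2 x)) h2
        (hv ▸ (e _).2)).trans ?_
      exact congrArg (fun z => (e' z : Ω')) (Subtype.ext hv)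
    · rw [Subgroup.coe_mul, MulAut.mul_apply]
      have hmu : ((c : MulAut U₀) u : Ω) ∈ preimageAlong θ Q := (hce u hu) ▸ hm _
      exact Eq.trans (congrArg ℓ' (Subtype.ext (hce u hu) :
        (⟨ℓ ⟨u, hu⟩, hm _⟩ : preimageAlong θ Q) = ⟨_, hmu⟩)) (hce' _ hmu)
  · intro P Q e hP hQ he hres hUQ hcard
    have hUP := nMap_surj d hn.1 he.symm hUQ
    have hcard' : Nat.card (imageAlong θ U₀) < Nat.card P :=
      hcard.trans_le (Nat.card_congr e.toEquiv).ge
    obtain ⟨ℓ, hℓ, hle, c, hc₁, hce⟩ := hres hUP hcard'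
    have heD : (P.subtype.comp e.symm.toMonoidHom) ∈ D.Hom Q :=
      (H85.mem_normalizerHom.1 (he.symm : _ ∈ (H85.normalizerSystem D (imageAlong θ U₀) hn.1).Hom Q)).1
    obtain ⟨ℓ₂, hℓ₂, hle₂⟩ := exists_liftL d heD
    have hℓS : ∀ x, ℓ x ∈ S := fun x => pre_le θ T' (((liftSys d).le_of_mem hℓ).2 x)
    have hval : ∀ x : preimageAlong θ P, ∃ h1 : (x : Ω) ∈ S, ∃ h3 : θ ⟨x, h1⟩ ∈ P,
        θ ⟨ℓ x, hℓS x⟩ = (e ⟨_, h3⟩ : Ω') := fun x => by
      obtain ⟨h1, h3⟩ := mem_preimageAlong.1 x.2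
      exact ⟨h1, h3, hle x h1 _ h3⟩
    have hm : ∀ x, ℓ x ∈ preimageAlong θ Q := fun x => by
      obtain ⟨h1, h3, hv⟩ := hval x
      exact mem_preimageAlong.2 ⟨_, hv ▸ (e _).2⟩
    have hcomp := (liftSys d).comp_mem hℓ hℓ₂ hm
    obtain ⟨hUp, hpN, huP⟩ := above hP hUP hcard'
    have hPT : preimageAlong θ P ≤ pre θ T' := hpN.trans inf_le_left
    have hsame : ∀ x : preimageAlong θ P, ((preimageAlong θ P).subtype x)⁻¹ *
        (ℓ₂.comp (ℓ.codRestrict _ hm)) x ∈ Z := by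
      intro x
      obtain ⟨h1, h3, hv⟩ := hval x
      have h2S := pre_le θ T' (((liftSys d).le_of_mem hℓ₂).2 ⟨ℓ x, hm x⟩)
      have h4 : θ ⟨ℓ₂ ⟨ℓ x, hm x⟩, h2S⟩ = θ ⟨x, h1⟩ := by
        rw [hle₂ ⟨ℓ x, hm x⟩ (hℓS x) h2S (hv ▸ (e _).2)]
        refine Eq.trans (congrArg (fun z => (e.symm z : Ω')) (Subtype.ext hv)) ?_
        rw [e.symm_apply_apply]
      exact (d.hθ.2.1 (⟨x, h1⟩⁻¹ * ⟨_, h2S⟩)).1 (by rw [map_mul, map_inv, h4, inv_mul_cancel])
    obtain ⟨c₀, hc₀, hce₀⟩ := agrees_of_same d hC hU₀ hUp hpN hZ huP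
      (H85.id_mem _ hPT) hcomp hsame ⟨1, one_mem _, fun u hu => rfl⟩
    · refine ⟨ℓ₂, hℓ₂, hle₂, c₀ * c⁻¹, mul_mem hc₀ (inv_mem hc₁), fun u hu => ?_⟩
      have h1 := hce₀ (((c⁻¹ : (naive d).autGroup U₀) : MulAut U₀) u) (hUp (SetLike.coe_mem _))
      rw [Subgroup.coe_mul, MulAut.mul_apply, ← h1]
      refine congrArg ℓ₂ (Subtype.ext ?_)
      refine Eq.trans ?_ (hce (((c⁻¹ : (naive d).autGroup U₀) : MulAut U₀) u) (hUp (SetLike.coe_mem _))).symm
      show (u : Ω) = (((c : MulAut U₀)) ((c : MulAut U₀)⁻¹ u) : Ω)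
      rw [MulAut.apply_inv_self]
  intro R' hR'N hRn _ α hα hUR hcard
  obtain ⟨R, hRdef⟩ : ∃ R, R = preimageAlong θ R' := ⟨_, rfl⟩
  obtain ⟨hUR₀, hRN, huR⟩ := above hR'N hUR hcard
  rw [← hRdef] at hUR₀ hRN huR
  have hR : R ≤ pre θ T' := hRN.trans inf_le_left
  have hRS := hR.trans (pre_le θ T')
  have hZR : Z ≤ R := hZ.trans hUR₀
  have : Finite R := H85.finite_of_le hRS
  have : Finite U₀ := H85.finite_of_le hU₀S
  have : Finite (MulAut R) := Finite.of_injective (fun e => (e : R → R)) DFunLike.coe_injective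
  have : Finite (MulAut U₀) := Finite.of_injective (fun e => (e : U₀ → U₀)) DFunLike.coe_injective
  have : Finite R' := H85.finite_of_le (hR'N.trans hN'T)
  have : Finite (MulAut R') := Finite.of_injective (fun e => (e : R' → R')) DFunLike.coe_injective
  have himg : imageAlong θ R = R' :=
    hRdef ▸ image_preimage d (hR'N.trans (hN'T.trans (le_target d)))
  subst himg
  let Λ := H85.pStab (liftSys d) hR U₀
  let ρ : Λ →* (naive d).autGroup U₀ := (H85.resAut (liftSys d) hR hUR₀).codRestrict _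
    fun a => H85.autGroup_mono (liftSys_le_naive d) U₀ (H85.resAut_mem (liftSys d) hR hUR₀ a)
  let ι : Λ →* (naive d).autGroup R := Λ.subtype.codRestrict _
    fun a => H85.autGroup_mono (liftSys_le_naive d) R (H85.mem_pStab.1 a.2).1
  have hf : ∀ a : Λ, red d hR (ι a) ∈ (H85.normalizerSystem D (imageAlong θ U₀) hn.1).autGroup (imageAlong θ R) := by
    intro a
    have hD := (H85.mem_autGroup (hR'N.trans hN'T)).1 (red_mem d hR (ι a))
    refine (H85.mem_autGroup hR'N).2 (H85.mem_normalizerHom.2 ⟨hD, hR'N,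
      fun x => hR'N (red d hR (ι a) x).2,
      ((imageAlong θ R).subtype.comp (red d hR (ι a)).toMonoidHom).comp
        (Subgroup.inclusion (sup_le le_rfl hUR)), H85.restrict hD _, fun x => rfl, ?_⟩)
    refine img_eq_of_mapsTo (H85.restrict hD _) le_sup_right fun z hz => ?_
    obtain ⟨u, hu⟩ := surj_image (θ := θ) hU₀S ⟨_, hz⟩
    have h1 : (⟨(z : Ω'), hUR hz⟩ : imageAlong θ R) =
        ⟨θ ⟨u, hU₀S u.2⟩, mem_image' θ hRS (Subgroup.inclusion hUR₀ u)⟩ := Subtype.ext hu.symm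
    show ((red d hR (ι a)) ⟨(z : Ω'), _⟩ : Ω') ∈ _
    rw [h1, show (⟨θ ⟨u, hU₀S u.2⟩, _⟩ : imageAlong θ R) = ⟨_, mem_image' θ hRS
      (Subgroup.inclusion hUR₀ u)⟩ from rfl]
    refine (red_apply d hR (ι a) (Subgroup.inclusion hUR₀ u)).symm ▸ ?_
    exact mem_image' θ hU₀S ⟨_, (H85.mem_pStab.1 a.2).2 (Subgroup.inclusion hUR₀ u) u.2⟩
  let f : Λ →* (H85.normalizerSystem D (imageAlong θ U₀) hn.1).autGroup (imageAlong θ R) := ((red d hR).comp ι).codRestrict _ hf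
  set Rs : Subgroup Λ := (autInducedBy (normalizerIn (pre θ T') U₀) R).subgroupOf Λ with hRsdef
  have hker : f.ker ≤ Rs := by
    intro a ha
    have h1 : ((ι a : (naive d).autGroup R) : MulAut R) ∈ trivMod Z R :=
      (red_ker d hR (ι a)).1 (MonoidHom.mem_ker.2 (congrArg Subtype.val (MonoidHom.mem_ker.1 ha)))
    exact H85.inn_le_autInducedBy hRN (huR _ (H85.mem_pStab.1 a.2).1 h1)
  have hidx : ¬ p ∣ Rs.index := by
    obtain ⟨-, W, hW⟩ := H85.fullyAutomized_of_fullyNormalized hN'p hNsat hRn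
    have hle : (W : Subgroup ((H85.normalizerSystem D (imageAlong θ U₀) hn.1).autGroup (imageAlong θ R))) ≤ Rs.map f := by
      intro b hb
      rw [hW] at hb
      obtain ⟨a, ha, hab⟩ := red_surjOn_sub d hR hZR hN'T hb
      rw [preimage_normalizer d hU₀ hZ] at ha
      obtain ⟨w, hw, hwe⟩ := H85.mem_autInducedBy.1 ha
      have haL : (a : MulAut R) ∈ (liftSys d).autGroup R := H85.autInducedBy_le_autGroup _ hR
        (H85.mem_autInducedBy.2 ⟨w, hw.1, hwe⟩)
      have haS : (a : MulAut R) ∈ Λ := H85.mem_pStab.2 ⟨haL, fun x hx => by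
        rw [hwe]
        exact H85.conj_mem_of_mem_normalizer hw.2 hx⟩
      exact ⟨⟨a, haS⟩, ha, Subtype.ext hab⟩
    intro hp
    refine W.not_dvd_index (hp.trans ?_)
    refine dvd_trans ?_ (Subgroup.index_dvd_of_le hle)
    rw [Subgroup.index_map, sup_eq_left.2 hker]
    exact dvd_mul_right _ _
  have hCn := hC.normal
  have htop : C.comap ρ = ⊤ := by
    refine eq_top_of_index (C.comap ρ) Rs (fun a ha => hC.induced _ ?_) hidx fun g => ?_
    · obtain ⟨w, hw, hwe⟩ := H85.mem_autInducedBy.1 ha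
      refine H85.mem_autInducedBy.2 ⟨w, hw.1, fun u => ?_⟩
      exact hwe (Subgroup.inclusion hUR₀ u)
    · obtain ⟨j, hj⟩ := hC.power (ρ g)
      exact ⟨j, by rw [Subgroup.mem_comap, map_pow]; exact hj⟩
  have hαD : (imageAlong θ R).subtype.comp α.toMonoidHom ∈ D.Hom (imageAlong θ R) :=
    (H85.mem_normalizerHom.1 ((H85.mem_autGroup hR'N).1 hα)).1
  obtain ⟨ℓ, hℓ, hle⟩ := exists_liftL d hαD
  have hpR : R ≤ preimageAlong θ (imageAlong θ R) := (preimage_image_eq d hRS hZR).ge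
  have hℓR := H85.restrict hℓ hpR
  have hℓS : ∀ x, ℓ x ∈ S := fun x => pre_le θ T' (((liftSys d).le_of_mem hℓ).2 x)
  have hv : ∀ x : R, θ ⟨ℓ (Subgroup.inclusion hpR x), hℓS _⟩ =
      (α ⟨_, mem_image' θ hRS x⟩ : Ω') := fun x => hle _ (hRS x.2) _ _
  have hr : (ℓ.comp (Subgroup.inclusion hpR)).range = R := range_eq_self_of_le _ hℓR (by
    rintro _ ⟨x, rfl⟩
    exact (preimage_image_eq d hRS hZR).le (mem_preimageAlong.2 ⟨hℓS _, hv x ▸ SetLike.coe_mem _⟩))
  set l : MulAut R := autOfHom _ ((liftSys d).injective_of_mem hℓR) hr with hldef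
  have hlS : l ∈ Λ := H85.mem_pStab.2 ⟨autOfHom_mem _ hℓR hr, fun x hx => by
    refine (preimage_image_eq d hU₀S hZ).le (mem_preimageAlong.2 ⟨hℓS _, ?_⟩)
    show θ ⟨ℓ (Subgroup.inclusion hpR x), hℓS _⟩ ∈ _
    rw [hv x]
    exact nMap_fix d hn.1 ((H85.mem_autGroup hR'N).1 hα)
      (z := ⟨_, mem_image' θ hRS x⟩) (mem_image' θ hU₀S ⟨x, hx⟩)⟩
  have hmem : (⟨l, hlS⟩ : Λ) ∈ C.comap ρ := htop ▸ trivial
  exact ⟨ℓ, hℓ, hle, ρ ⟨l, hlS⟩, hmem, fun u hu => congrArg ℓ (Subtype.ext rfl)⟩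

/-- A map of the lifted system on an overgroup in the normalizer, stabilizing `U₀`, restricts to
an element of `C`. -/
theorem agrees_of_stab (d : Data p F Z θ F' D) {C : Subgroup ((naive d).autGroup U₀)}
    (hC : IsDefectKernel d U₀ C) (hU₀ : U₀ ≤ pre θ T') (hZ : Z ≤ U₀)
    (hc : D.IsCentric (imageAlong θ U₀)) (hn : D.IsFullyNormalized (imageAlong θ U₀))
    (hu : ∀ V : Subgroup Ω, Z ≤ V → V ≤ pre θ T' → D.IsCentric (imageAlong θ V) →
      Nat.card U₀ < Nat.card V → Uniq d V)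
    {V : Subgroup Ω} (hUV : U₀ ≤ V) (hlt : Nat.card U₀ < Nat.card V)
    (hVN : V ≤ normalizerIn (pre θ T') U₀) {x : V →* Ω} (hx : x ∈ (liftSys d).Hom V)
    (hstab : ∀ v : V, (v : Ω) ∈ U₀ → x v ∈ U₀) : Agrees d C x := by
  have := finite_target d
  have := finite_base d
  have := H85.finite_of_le (pre_le θ T')
  have hV : V ≤ pre θ T' := hVN.trans inf_le_left
  have hVS := hV.trans (pre_le θ T')
  have hZV := hZ.trans hUV
  have hU₀S := hU₀.trans (pre_le θ T')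
  obtain ⟨-, -, x', hx', hVS₁, hxS, hV', hxe⟩ := liftSys_le_naive d _ hx
  have hV'N : imageAlong θ V ≤ normalizerIn T' (imageAlong θ U₀) := by
    have h := imageAlong_mono (θ := θ) ((hVN.trans (preimage_normalizer d hU₀ hZ).ge))
    rwa [image_preimage d ((H85.normalizerIn_le _).trans (le_target d))] at h
  have hUV' : imageAlong θ U₀ ≤ imageAlong θ V := imageAlong_mono hUV
  have : Finite (imageAlong θ U₀) := H85.finite_of_le hn.1
  have hxD : x' ∈ D.Hom (imageAlong θ V) := hx'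
  have hmaps : ∀ z : imageAlong θ V, (z : Ω') ∈ imageAlong θ U₀ → x' z ∈ imageAlong θ U₀ := by
    intro z hz
    obtain ⟨u, hu'⟩ := surj_image (θ := θ) hU₀S ⟨_, hz⟩
    rw [show z = ⟨θ ⟨u, hVS (hUV u.2)⟩, hV' (Subgroup.inclusion hUV u)⟩ from
      Subtype.ext hu'.symm]
    refine (hxe (Subgroup.inclusion hUV u)).symm ▸ ?_
    exact mem_image' θ hU₀S ⟨_, hstab (Subgroup.inclusion hUV u) u.2⟩
  have himg := img_eq_of_mapsTo hxD hUV' hmaps
  have hxN : x' ∈ (H85.normalizerSystem D (imageAlong θ U₀) hn.1).Hom (imageAlong θ V) :=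
    H85.mem_normalizerHom.2 ⟨hxD, hV'N, fun z =>
      mem_normalizerIn_of_map hxD hUV' himg (hV'N z.2).2,
      _, H85.restrict hxD (sup_le le_rfl hUV'), fun z => rfl,
      img_eq_of_mapsTo (H85.restrict hxD _) le_sup_right fun z hz => hmaps _ hz⟩
  obtain ⟨ℓ, hℓ, hle, c, hc₁, hce⟩ := liftRes_all d hC hU₀ hZ hc hn hu hxN hUV'
    (card_lt_image d hVS hZ hUV hlt)
  have hp : V ≤ preimageAlong θ (imageAlong θ V) := (preimage_image_eq d hVS hZV).ge
  refine agrees_of_same d hC hU₀ hUV hVN hZ (hu V hZV hV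
    (H85.centric_mono hc hUV' (image_le_base hV)) hlt) (H85.restrict hℓ hp) hx (fun v => ?_)
    ⟨c, hc₁, fun u hu' => hce u (hp hu')⟩
  have hℓS := pre_le θ T' (((liftSys d).le_of_mem hℓ).2 (Subgroup.inclusion hp v))
  have h1 : θ ⟨ℓ (Subgroup.inclusion hp v), hℓS⟩ = θ ⟨x v, hxS v⟩ :=
    (hle _ (hVS v.2) hℓS (mem_image' θ hVS v)).trans (hxe v)
  exact (d.hθ.2.1 (⟨_, hℓS⟩⁻¹ * ⟨x v, hxS v⟩)).1 (by rw [map_mul, map_inv, h1, inv_mul_cancel])

end H86.CLift
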